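import Mathlib
import Cfsg.Agent.S0538
import Cfsg.Agent.S4333
import Cfsg.Agent.Lead.Glauberman
import Cfsg.Agent.Helper1.Fusion

set_option autoImplicit false
open scoped Pointwise

namespace Cfsg.Agent.Helper19

universe u

/-- relative subnormality of `A` in `K` -/
def SN {G : Type*} [Group G] (A K : Subgroup G) : Prop := (A.subgroupOf K).IsSubnormal

/-- `K` is generated by its own conjugates of `A`: no proper normal subgroup of `K` contains `A`. -/
def Perf {G : Type*} [Group G] (A K : Subgroup G) : Prop :=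
  A ≤ K ∧ ∀ X : Subgroup G, A ≤ X → X ≤ K → K ≤ Subgroup.normalizer (X : Set G) → X = K

theorem le_normalizer_map_subtype {G : Type*} [Group G] (K : Subgroup G) (N : Subgroup K)
    [hN : N.Normal] : K ≤ Subgroup.normalizer ((N.map K.subtype : Subgroup G) : Set G) := by
  have h1 := Subgroup.le_normalizer_map (H := N) K.subtype
  rw [Subgroup.normalizer_eq_top, ← MonoidHom.range_eq_map, Subgroup.range_subtype] at h1
  exact h1

theorem perf_iff {G : Type*} [Group G] (A K : Subgroup G) (hAK : A ≤ K) :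
    Subgroup.normalClosure ((A.subgroupOf K : Subgroup K) : Set K) = ⊤ ↔ Perf A K := by
  constructor
  · intro h
    refine ⟨hAK, fun X hAX hXK hKX => ?_⟩
    haveI : (X.subgroupOf K).Normal := Subgroup.normal_subgroupOf_of_le_normalizer hKX
    have h1 : Subgroup.normalClosure ((A.subgroupOf K : Subgroup K) : Set K) ≤ X.subgroupOf K :=
      Subgroup.normalClosure_le_normal (Subgroup.comap_mono hAX)
    rw [h, top_le_iff, Subgroup.subgroupOf_eq_top] at h1
    exact le_antisymm hXK h1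
  · intro h
    obtain ⟨N, hN⟩ : ∃ N : Subgroup K, N = Subgroup.normalClosure ((A.subgroupOf K : Subgroup K) : Set K) :=
      ⟨_, rfl⟩
    haveI : N.Normal := hN ▸ Subgroup.normalClosure_normal
    have hAN : A.subgroupOf K ≤ N := hN ▸ Subgroup.subset_normalClosure
    have h1 : N.map K.subtype = K := by
      apply h.2
      · intro a ha
        exact ⟨⟨a, hAK ha⟩, hAN (Subgroup.mem_subgroupOf.mpr ha), rfl⟩
      · exact Subgroup.map_subtype_le N
      · exact le_normalizer_map_subtype K N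
    rw [← hN, eq_top_iff]
    intro y _
    have hy : (y : G) ∈ N.map K.subtype := by rw [h1]; exact y.2
    obtain ⟨n, hn, hny⟩ := hy
    have : n = y := Subtype.ext hny
    rw [← this]; exact hn

theorem perf_self {G : Type*} [Group G] (A : Subgroup G) : Perf A A :=
  ⟨le_rfl, fun _ hAX hXA _ => le_antisymm hXA hAX⟩

theorem perf_trans {G : Type*} [Group G] {A T K : Subgroup G} (h1 : Perf A T) (h2 : Perf T K) :
    Perf A K := by
  refine ⟨h1.1.trans h2.1, fun X hAX hXK hKX => ?_⟩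
  have h3 : X ⊓ T = T := by
    apply h1.2 (X ⊓ T) (le_inf hAX h1.1) inf_le_right
    intro t ht
    have ht1 : t ∈ Subgroup.normalizer (X : Set G) := hKX (h2.1 ht)
    rw [Subgroup.mem_normalizer_iff] at ht1 ⊢
    intro y
    constructor
    · rintro ⟨hy1, hy2⟩
      exact ⟨(ht1 y).mp hy1, T.mul_mem (T.mul_mem ht hy2) (T.inv_mem ht)⟩
    · rintro ⟨hy1, hy2⟩
      refine ⟨(ht1 y).mpr hy1, ?_⟩
      have := T.mul_mem (T.mul_mem (T.inv_mem ht) hy2) ht
      simpa [mul_assoc] using this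
  exact h2.2 X (inf_eq_right.mp h3) hXK hKX

theorem perf_sn_eq {G : Type*} [Group G] {B K : Subgroup G} (h1 : Perf B K) (h2 : SN B K) :
    K = B := by
  have h : B.subgroupOf K = ⊤ := by
    by_contra hne
    obtain ⟨N, hNn, hle, hlt⟩ := h2.exists_normal_and_le_and_lt_top_of_ne hne
    have h3 : N.map K.subtype = K := by
      apply h1.2
      · intro b hb
        exact ⟨⟨b, h1.1 hb⟩, hle (Subgroup.mem_subgroupOf.mpr hb), rfl⟩
      · exact Subgroup.map_subtype_le N
      · exact le_normalizer_map_subtype K N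
    apply hlt.ne
    rw [eq_top_iff]
    intro y _
    have hy : (y : G) ∈ N.map K.subtype := by rw [h3]; exact y.2
    obtain ⟨n, hn, hny⟩ := hy
    have : n = y := Subtype.ext hny
    rw [← this]; exact hn
  exact le_antisymm (Subgroup.subgroupOf_eq_top.mp h) h1.1

theorem sn_refl {G : Type*} [Group G] (A : Subgroup G) : SN A A := by
  unfold SN
  rw [Subgroup.subgroupOf_self]
  exact Subgroup.IsSubnormal.top

theorem sn_of_le {G : Type*} [Group G] {A J V : Subgroup G} (hJV : J ≤ V) (h : SN A V) :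
    SN A J :=
  Cfsg.Agent.S4333.sn_of_le A J V hJV h

theorem sn_conj {G : Type*} [Group G] (g : G) {A L : Subgroup G} (h : SN A L) :
    SN (MulAut.conj g • A) (MulAut.conj g • L) :=
  Cfsg.Agent.S4333.sn_conj g A L h

theorem sn_trans_normal {G : Type*} [Group G] {A X K : Subgroup G} (hAX : A ≤ X) (hXK : X ≤ K)
    (h : SN A X) (hKX : K ≤ Subgroup.normalizer (X : Set G)) : SN A K := by
  have hXn : (X.subgroupOf K).Normal := Subgroup.normal_subgroupOf_of_le_normalizer hKX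
  have hle : A.subgroupOf K ≤ X.subgroupOf K := Subgroup.comap_mono hAX
  refine Subgroup.IsSubnormal.trans hle ?_ hXn.isSubnormal
  have e : (A.subgroupOf K).subgroupOf (X.subgroupOf K)
      = (A.subgroupOf X).comap (Subgroup.subgroupOfEquivOfLe hXK).toMonoidHom := by
    ext y
    simp [Subgroup.mem_subgroupOf, Subgroup.subgroupOfEquivOfLe]
  rw [e]
  exact Subgroup.IsSubnormal.comap _ h

theorem sn_sup {G : Type*} [Group G] [Finite G] {A B K : Subgroup G} (hA : A ≤ K) (hB : B ≤ K)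
    (h1 : SN A K) (h2 : SN B K) : SN (A ⊔ B) K := by
  unfold SN
  rw [Subgroup.subgroupOf_sup hA hB]
  exact Cfsg.Agent.S0538.result _ _ h1 h2

theorem sn_sSup {G : Type*} [Group G] [Finite G] (K : Subgroup G) (S : Set (Subgroup G))
    (h : ∀ C ∈ S, C ≤ K ∧ SN C K) : SN (sSup S) K := by
  classical
  have key : ∀ s : Finset (Subgroup G), (∀ C ∈ s, C ≤ K ∧ SN C K) →
      s.sup id ≤ K ∧ SN (s.sup id) K := by
    intro s
    induction s using Finset.induction_on with
    | empty =>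
      intro _
      refine ⟨by simp, ?_⟩
      unfold SN
      simp
    | insert a s ha ih =>
      intro hs
      have h1 := ih (fun C hC => hs C (Finset.mem_insert_of_mem hC))
      have h2 := hs a (Finset.mem_insert_self a s)
      rw [Finset.sup_insert]
      exact ⟨sup_le h2.1 h1.1, sn_sup h2.1 h1.1 h2.2 h1.2⟩
  have hfin : S.Finite := Set.toFinite S
  have e : sSup S = hfin.toFinset.sup id := by
    rw [Finset.sup_id_eq_sSup, Set.Finite.coe_toFinset]
  rw [e]
  exact (key _ (fun C hC => h C (hfin.mem_toFinset.mp hC))).2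

theorem le_or_le_of_forall {G : Type*} [Group G] (D H₁ H₂ : Subgroup G)
    (h : ∀ s ∈ D, s ∈ H₁ ∨ s ∈ H₂) : D ≤ H₁ ∨ D ≤ H₂ := by
  by_contra hcon
  rw [not_or] at hcon
  obtain ⟨h1, h2⟩ := hcon
  obtain ⟨a, haD, ha1⟩ := SetLike.not_le_iff_exists.mp h1
  obtain ⟨b, hbD, hb2⟩ := SetLike.not_le_iff_exists.mp h2
  have ha2 : a ∈ H₂ := (h a haD).resolve_left ha1
  have hb1 : b ∈ H₁ := (h b hbD).resolve_right hb2
  rcases h (a * b) (D.mul_mem haD hbD) with hab | hab
  · apply ha1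
    have := H₁.mul_mem hab (H₁.inv_mem hb1)
    simpa using this
  · apply hb2
    have := H₂.mul_mem (H₂.inv_mem ha2) hab
    simpa using this

theorem card_lt_of_lt {G : Type*} [Group G] [Finite G] {A B : Subgroup G} (h : A < B) :
    Nat.card A < Nat.card B := by
  apply lt_of_le_of_ne (Subgroup.card_le_of_le h.le)
  intro hc
  exact h.ne (Subgroup.eq_of_le_of_card_ge h.le (le_of_eq hc.symm))

theorem card_conj {G : Type*} [Group G] (g : G) (A : Subgroup G) :
    Nat.card (MulAut.conj g • A : Subgroup G) = Nat.card A :=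
  (Nat.card_congr (Subgroup.equivSMul (MulAut.conj g) A).toEquiv).symm

theorem conj_mul {G : Type*} [Group G] (g h : G) (A : Subgroup G) :
    MulAut.conj g • MulAut.conj h • A = MulAut.conj (g * h) • A := by
  rw [smul_smul, ← map_mul]

theorem conj_one {G : Type*} [Group G] (A : Subgroup G) : MulAut.conj (1 : G) • A = A := by
  rw [map_one, one_smul]

theorem conj_inv_conj {G : Type*} [Group G] (g : G) (A : Subgroup G) :
    MulAut.conj g⁻¹ • MulAut.conj g • A = A := by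
  rw [conj_mul, inv_mul_cancel, conj_one]

theorem conj_conj_inv {G : Type*} [Group G] (g : G) (A : Subgroup G) :
    MulAut.conj g • MulAut.conj g⁻¹ • A = A := by
  rw [conj_mul, mul_inv_cancel, conj_one]

theorem conj_mono {G : Type*} [Group G] (g : G) {A B : Subgroup G} (h : A ≤ B) :
    MulAut.conj g • A ≤ MulAut.conj g • B :=
  Subgroup.pointwise_smul_le_pointwise_smul_iff.mpr h

theorem conj_le_iff {G : Type*} [Group G] (g : G) {A B : Subgroup G} :
    MulAut.conj g • A ≤ B ↔ A ≤ MulAut.conj g⁻¹ • B := by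
  constructor
  · intro h
    have := conj_mono g⁻¹ h
    rwa [conj_inv_conj] at this
  · intro h
    have := conj_mono g h
    rwa [conj_conj_inv] at this

theorem conj_inj {G : Type*} [Group G] (g : G) {A B : Subgroup G}
    (h : MulAut.conj g • A = MulAut.conj g • B) : A = B := by
  have := congrArg (fun X => MulAut.conj g⁻¹ • X) h
  simpa [conj_inv_conj] using this

theorem conj_eq_of_mem {G : Type*} [Group G] {g : G} {A : Subgroup G} (h : g ∈ A) :
    MulAut.conj g • A = A :=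
  Cfsg.Agent.Lead.conj_smul_eq_of_mem h

theorem mem_normalizer_iff_conj {G : Type*} [Group G] {H : Subgroup G} {g : G} :
    g ∈ Subgroup.normalizer (H : Set G) ↔ MulAut.conj g • H = H :=
  Cfsg.Agent.Lead.mem_normalizer_iff_conj_smul

theorem mem_normalizer_of_conj_le {G : Type*} [Group G] [Finite G] {H : Subgroup G} {g : G}
    (h : MulAut.conj g • H ≤ H) : g ∈ Subgroup.normalizer (H : Set G) := by
  rw [mem_normalizer_iff_conj]
  exact Subgroup.eq_of_le_of_card_ge h (le_of_eq (card_conj g H).symm)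

theorem conj_normalizer_le {G : Type*} [Group G] (g : G) (A : Subgroup G) :
    MulAut.conj g • Subgroup.normalizer (A : Set G)
      ≤ Subgroup.normalizer ((MulAut.conj g • A : Subgroup G) : Set G) := by
  intro x hx
  rw [Cfsg.Agent.Lead.mem_conj_smul', mem_normalizer_iff_conj] at hx
  rw [mem_normalizer_iff_conj]
  have e : x = g * (g⁻¹ * x * g) * g⁻¹ := by group
  rw [e, ← conj_mul, ← conj_mul, conj_inv_conj, hx]

theorem isCoatom_conj {G : Type*} [Group G] (g : G) {M : Subgroup G} (h : IsCoatom M) :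
    IsCoatom (MulAut.conj g • M) := by
  constructor
  · intro e
    apply h.1
    have := congrArg (fun X => MulAut.conj g⁻¹ • X) e
    simp only [conj_inv_conj] at this
    rw [this, eq_top_iff]
    intro x _
    rw [Cfsg.Agent.Lead.mem_conj_smul']
    exact Subgroup.mem_top _
  · intro b hb
    have h1 : M < MulAut.conj g⁻¹ • b := by
      constructor
      · rw [← conj_le_iff]; exact hb.le
      · intro h2
        apply hb.not_ge
        have := conj_mono g h2
        rwa [conj_conj_inv] at this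
    have h2 := h.2 _ h1
    rw [eq_top_iff]
    intro x _
    have : g⁻¹ * x * g ∈ MulAut.conj g⁻¹ • b := by rw [h2]; exact Subgroup.mem_top _
    rw [Cfsg.Agent.Lead.mem_conj_smul'] at this
    have e : g⁻¹⁻¹ * (g⁻¹ * x * g) * g⁻¹ = x := by group
    rwa [e] at this

theorem perf_conj {G : Type*} [Group G] (g : G) {A K : Subgroup G} (h : Perf A K) :
    Perf (MulAut.conj g • A) (MulAut.conj g • K) := by
  refine ⟨conj_mono g h.1, fun X hAX hXK hKX => ?_⟩
  have h1 : MulAut.conj g⁻¹ • X = K := by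
    apply h.2
    · rw [← conj_le_iff]; exact hAX
    · have := conj_mono g⁻¹ hXK
      rwa [conj_inv_conj] at this
    · have := (conj_mono g⁻¹ hKX).trans (conj_normalizer_le g⁻¹ X)
      rwa [conj_inv_conj] at this
  rw [← h1, conj_conj_inv]

theorem sn_or_perf {G : Type*} [Group G] [Finite G] : ∀ (n : ℕ) (K A : Subgroup G),
    Nat.card K = n → A ≤ K → SN A K ∨ ∃ T : Subgroup G, T ≤ K ∧ T ≠ A ∧ Perf A T := by
  intro n
  induction n using Nat.strong_induction_on with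
  | _ n ih =>
  intro K A hn hAK
  by_cases hP : Perf A K
  · by_cases hKA : K = A
    · left; rw [hKA]; exact sn_refl A
    · right; exact ⟨K, le_rfl, hKA, hP⟩
  · have hP' : ∃ X : Subgroup G, A ≤ X ∧ X ≤ K ∧ K ≤ Subgroup.normalizer (X : Set G) ∧ X ≠ K := by
      by_contra hcon
      apply hP
      refine ⟨hAK, fun X hAX hXK hKX => ?_⟩
      by_contra hne
      exact hcon ⟨X, hAX, hXK, hKX, hne⟩
    obtain ⟨X, hAX, hXK, hKX, hne⟩ := hP'
    have hlt : Nat.card X < n := by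
      rw [← hn]; exact card_lt_of_lt (lt_of_le_of_ne hXK hne)
    rcases ih _ hlt X A rfl hAX with h | ⟨T, hTX, hTA, hPT⟩
    · left; exact sn_trans_normal hAX hXK h hKX
    · right; exact ⟨T, hTX.trans hXK, hTA, hPT⟩

theorem conj_top {G : Type*} [Group G] (g : G) : MulAut.conj g • (⊤ : Subgroup G) = ⊤ := by
  rw [eq_top_iff]
  intro x _
  rw [Cfsg.Agent.Lead.mem_conj_smul']
  exact Subgroup.mem_top _

theorem conj_ne_top {G : Type*} [Group G] (g : G) {H : Subgroup G} (h : H ≠ ⊤) :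
    MulAut.conj g • H ≠ ⊤ := by
  intro e
  apply h
  have := congrArg (fun X => MulAut.conj g⁻¹ • X) e
  simp only [conj_inv_conj, conj_top] at this
  exact this

theorem ncl_top_of_conj_le {G : Type*} [Group G] {A B : Subgroup G} (g : G)
    (h : Subgroup.normalClosure (A : Set G) = ⊤) (hle : MulAut.conj g • A ≤ B) :
    Subgroup.normalClosure (B : Set G) = ⊤ := by
  rw [eq_top_iff, ← h]
  apply Subgroup.normalClosure_le_normal
  have h1 : A ≤ MulAut.conj g⁻¹ • Subgroup.normalClosure (B : Set G) := by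
    rw [← conj_le_iff]
    exact hle.trans Subgroup.le_normalClosure
  rwa [Subgroup.Normal.conj_smul_eq_self] at h1

theorem exists_C {G : Type*} [Group G] [Finite G] : ∀ (n : ℕ) (L X : Subgroup G),
    Nat.card L = n → X ≤ L → SN X L → ¬ L ≤ Subgroup.normalizer (X : Set G) →
    ∃ C : Subgroup G, C ≤ L ∧ X ≤ C ∧ ¬ C ≤ Subgroup.normalizer (X : Set G) ∧
      (∀ s ∈ C, MulAut.conj s • X ≤ Subgroup.normalizer (X : Set G)) ∧
      (C = L ∨ ∃ I : Set G, (∀ c ∈ I, c ∈ Subgroup.normalizer (C : Set G)) ∧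
        C = ⨆ c ∈ I, MulAut.conj c • X) := by
  intro n
  induction n using Nat.strong_induction_on with
  | _ n ih =>
  intro L X hn hXL hsn hLX
  obtain ⟨N, hN⟩ : ∃ N : Subgroup G, N = ⨆ l ∈ (L : Set G), MulAut.conj l • X := ⟨_, rfl⟩
  have hXN : X ≤ N := by
    rw [hN]
    have := le_iSup₂ (f := fun (l : G) (_ : l ∈ (L : Set G)) => MulAut.conj l • X) 1 (L.one_mem)
    simpa [conj_one] using this
  have hNL : N ≤ L := by
    rw [hN]
    refine iSup₂_le fun l hl => ?_
    have := conj_mono l hXL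
    rwa [conj_eq_of_mem hl] at this
  have hLN : L ≤ Subgroup.normalizer (N : Set G) := by
    intro g hg
    apply mem_normalizer_of_conj_le
    rw [conj_le_iff]
    conv_lhs => rw [hN]
    refine iSup₂_le fun l hl => ?_
    rw [← conj_le_iff, conj_mul, hN]
    exact le_iSup₂ (f := fun (l : G) (_ : l ∈ (L : Set G)) => MulAut.conj l • X) (g * l)
      (L.mul_mem hg hl)
  by_cases hNX : N ≤ Subgroup.normalizer (X : Set G)
  · refine ⟨L, le_rfl, hXL, hLX, fun s hs => ?_, Or.inl rfl⟩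
    refine le_trans ?_ hNX
    rw [hN]
    exact le_iSup₂ (f := fun (l : G) (_ : l ∈ (L : Set G)) => MulAut.conj l • X) s hs
  · have hne : N ≠ L := by
      intro e
      have hP : Perf X L := by
        refine ⟨hXL, fun Z hXZ hZL hLZ => le_antisymm hZL ?_⟩
        rw [← e, hN]
        refine iSup₂_le fun l hl => ?_
        have h1 := conj_mono l hXZ
        have h2 : MulAut.conj l • Z = Z := mem_normalizer_iff_conj.mp (hLZ hl)
        rwa [h2] at h1
      have := perf_sn_eq hP hsn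
      apply hLX
      rw [this]
      exact Subgroup.le_normalizer
    have hlt : Nat.card N < n := by
      rw [← hn]; exact card_lt_of_lt (lt_of_le_of_ne hNL hne)
    obtain ⟨C, hCN, hXC, hCX, hs, hC⟩ := ih _ hlt N X rfl hXN (sn_of_le hNL hsn) hNX
    refine ⟨C, hCN.trans hNL, hXC, hCX, hs, ?_⟩
    rcases hC with hC | hC
    · right
      refine ⟨(L : Set G), fun c hc => ?_, ?_⟩
      · rw [hC]; exact hLN hc
      · rw [hC, hN]
    · right; exact hC

/-- abstract configuration of a minimal counterexample to the generalized zipper lemma -/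
structure ZCfg {G : Type*} [Group G] (Cj : Subgroup G → Subgroup G → Prop) : Prop where
  le : ∀ C V, Cj C V → C ≤ V
  nle : ∀ C V, Cj C V → Subgroup.normalizer (C : Set G) ≤ V
  coatom : ∀ C V, Cj C V → IsCoatom V
  r3 : ∀ C V L, Cj C V → IsCoatom L → C ≤ L → L ≠ V → SN C L
  r4 : ∀ C C' V, Cj C V → Cj C' V → ∃ m ∈ V, C' = MulAut.conj m • C
  r5 : ∀ C V (x : G), Cj C V → Cj (MulAut.conj x • C) (MulAut.conj x • V)
  kl : ∀ (S : Set (Subgroup G)) (V₀ : Subgroup G),
    (∀ C ∈ S, ∃ V, Cj C V ∧ (sSup S ≤ V → V ≤ V₀)) → (∃ C ∈ S, C ≠ sSup S) →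
    sSup S ≤ V₀ → V₀ ≠ ⊤ →
    ∀ V V', IsCoatom V → IsCoatom V' → sSup S ≤ V → sSup S ≤ V' → V = V'

theorem ZCfg.kl2 {G : Type*} [Group G] {Cj : Subgroup G → Subgroup G → Prop} (h : ZCfg Cj)
    {C C' VC VC' V₀ : Subgroup G} (h1 : Cj C VC) (h2 : Cj C' VC') (hne : C ≠ C')
    (hC : C ⊔ C' ≤ VC → VC ≤ V₀) (hC' : C ⊔ C' ≤ VC' → VC' ≤ V₀) (hle : C ⊔ C' ≤ V₀)
    (hV₀ : V₀ ≠ ⊤) {V V' : Subgroup G} (hV : IsCoatom V) (hV' : IsCoatom V')
    (hBV : C ⊔ C' ≤ V) (hBV' : C ⊔ C' ≤ V') : V = V' := by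
  have e : sSup ({C, C'} : Set (Subgroup G)) = C ⊔ C' := sSup_pair
  apply h.kl {C, C'} V₀
  · intro D hD
    rcases hD with hD | hD
    · rw [hD, e]; exact ⟨VC, h1, hC⟩
    · rw [Set.mem_singleton_iff] at hD
      rw [hD, e]; exact ⟨VC', h2, hC'⟩
  · rw [e]
    by_cases h3 : C = C ⊔ C'
    · refine ⟨C', by simp, ?_⟩
      intro h4
      apply hne
      rw [h3, ← h4]
    · exact ⟨C, by simp, h3⟩
  · rw [e]; exact hle
  · exact hV₀
  · exact hV
  · exact hV'
  · rw [e]; exact hBV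
  · rw [e]; exact hBV'

theorem ZCfg.c6 {G : Type*} [Group G] {Cj : Subgroup G → Subgroup G → Prop} (h : ZCfg Cj)
    {C V L : Subgroup G} {m : G} (hC : Cj C V) (hL : IsCoatom L) (hCL : C ≤ L) (hLV : L ≠ V)
    (hm : m ∈ V) (hmL : MulAut.conj m • C ≤ L) : MulAut.conj m • C = C := by
  by_contra hne
  have h2 : Cj (MulAut.conj m • C) V := by
    have := h.r5 C V m hC
    rwa [conj_eq_of_mem hm] at this
  have hmV : MulAut.conj m • C ≤ V := h.le _ _ h2
  apply hLV
  exact h.kl2 hC h2 (Ne.symm hne) (fun _ => le_rfl) (fun _ => le_rfl)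
    (sup_le (h.le _ _ hC) hmV) (h.coatom _ _ hC).1 hL (h.coatom _ _ hC)
    (sup_le hCL hmL) (sup_le (h.le _ _ hC) hmV)

theorem ZCfg.c6' {G : Type*} [Group G] {Cj : Subgroup G → Subgroup G → Prop} (h : ZCfg Cj)
    {C V L : Subgroup G} (hC : Cj C V) (hL : IsCoatom L) (hCL : C ≤ L) (hLV : L ≠ V) :
    V ⊓ L ≤ Subgroup.normalizer (C : Set G) := by
  intro m hm
  rw [mem_normalizer_iff_conj]
  apply h.c6 hC hL hCL hLV hm.1
  have := conj_mono m hCL
  rwa [conj_eq_of_mem hm.2] at this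

theorem ZCfg.c7 {G : Type*} [Group G] {Cj : Subgroup G → Subgroup G → Prop} (h : ZCfg Cj)
    {C V C' V' L : Subgroup G} (hC : Cj C V) (hC' : Cj C' V') (hL : IsCoatom L) (hCL : C ≤ L)
    (hLV : L ≠ V) (hne : C' ≠ C) (hC'V : C' ≤ V) (hC'L : C' ≤ L) : V' ≠ V ∧ C ≤ V' := by
  have hVV : V' ≠ V := by
    intro e
    rw [e] at hC'
    obtain ⟨m, hm, e2⟩ := h.r4 C C' V hC hC'
    apply hne
    rw [e2]
    apply h.c6 hC hL hCL hLV hm
    rw [← e2]; exact hC'L
  refine ⟨hVV, ?_⟩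
  by_contra hCV'
  apply hLV
  have hB : ¬ C ⊔ C' ≤ V' := fun hB => hCV' (le_sup_left.trans hB)
  exact h.kl2 hC hC' (Ne.symm hne) (fun _ => le_rfl) (fun hB' => absurd hB' hB)
    (sup_le (h.le _ _ hC) hC'V) (h.coatom _ _ hC).1 hL (h.coatom _ _ hC)
    (sup_le hCL hC'L) (sup_le (h.le _ _ hC) hC'V)

theorem ZCfg.tri {G : Type*} [Group G] {Cj : Subgroup G → Subgroup G → Prop} (h : ZCfg Cj)
    {C V C' V' V₁ V₂ : Subgroup G} (hC : Cj C V) (hC' : Cj C' V') (hV₁ : IsCoatom V₁)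
    (hV₂ : IsCoatom V₂) (h12 : V₁ ≠ V₂) (hC1 : C ≤ V₁) (hC2 : C ≤ V₂) (hC'1 : C' ≤ V₁)
    (hC'2 : C' ≤ V₂) : C' ≤ V := by
  by_cases hne : C = C'
  · rw [← hne]; exact h.le _ _ hC
  by_cases hBV : C ⊔ C' ≤ V
  · exact le_sup_right.trans hBV
  · exfalso; apply h12
    by_cases hBV' : C ⊔ C' ≤ V'
    · exact h.kl2 hC hC' hne (fun hB => absurd hB hBV) (fun _ => le_rfl) hBV'
        (h.coatom _ _ hC').1 hV₁ hV₂ (sup_le hC1 hC'1) (sup_le hC2 hC'2)
    · exact h.kl2 hC hC' hne (fun hB => absurd hB hBV) (fun hB => absurd hB hBV')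
        (sup_le hC1 hC'1) hV₁.1 hV₁ hV₂ (sup_le hC1 hC'1) (sup_le hC2 hC'2)

/-- join of the `Cj`-subgroups inside `V ⊓ W` -/
def ZJ {G : Type*} [Group G] (Cj : Subgroup G → Subgroup G → Prop) (V W : Subgroup G) :
    Subgroup G :=
  sSup {C : Subgroup G | (∃ U, Cj C U) ∧ C ≤ V ∧ C ≤ W}

theorem ZCfg.zj_eq {G : Type*} [Group G] {Cj : Subgroup G → Subgroup G → Prop} (h : ZCfg Cj)
    {C₂ V₂ C₃ V₃ V₁ : Subgroup G} (hC₂ : Cj C₂ V₂) (hC₃ : Cj C₃ V₃) (hV₁ : IsCoatom V₁)
    (h12 : V₁ ≠ V₂) (h13 : V₁ ≠ V₃) (h21 : C₂ ≤ V₁) (h23 : C₂ ≤ V₃) (h31 : C₃ ≤ V₁)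
    (h32 : C₃ ≤ V₂) : ZJ Cj V₁ V₂ = ZJ Cj V₁ V₃ := by
  unfold ZJ
  congr 1
  ext Ck
  constructor
  · rintro ⟨⟨U, hU⟩, hk1, hk2⟩
    exact ⟨⟨U, hU⟩, hk1, h.tri hC₃ hU hV₁ (h.coatom _ _ hC₂) h12 h31 h32 hk1 hk2⟩
  · rintro ⟨⟨U, hU⟩, hk1, hk3⟩
    exact ⟨⟨U, hU⟩, hk1, h.tri hC₂ hU hV₁ (h.coatom _ _ hC₃) h13 h21 h23 hk1 hk3⟩

theorem zj_comm {G : Type*} [Group G] (Cj : Subgroup G → Subgroup G → Prop) (V W : Subgroup G) :
    ZJ Cj V W = ZJ Cj W V := by
  unfold ZJ
  congr 1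
  ext Ck
  constructor
  · rintro ⟨hU, hk1, hk2⟩; exact ⟨hU, hk2, hk1⟩
  · rintro ⟨hU, hk1, hk2⟩; exact ⟨hU, hk2, hk1⟩

theorem ZCfg.zj_conj {G : Type*} [Group G] {Cj : Subgroup G → Subgroup G → Prop} (h : ZCfg Cj)
    (c : G) (V W : Subgroup G) :
    MulAut.conj c • ZJ Cj V W ≤ ZJ Cj (MulAut.conj c • V) (MulAut.conj c • W) := by
  rw [conj_le_iff]
  unfold ZJ
  apply sSup_le
  rintro Ck ⟨⟨U, hU⟩, hk1, hk2⟩
  rw [← conj_le_iff]
  apply le_sSup
  exact ⟨⟨_, h.r5 _ _ c hU⟩, conj_mono c hk1, conj_mono c hk2⟩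

theorem ZCfg.c9 {G : Type*} [Group G] [Finite G] {Cj : Subgroup G → Subgroup G → Prop}
    (h : ZCfg Cj) {Q W V : Subgroup G} (hQ : Cj Q W) (hV : IsCoatom V) (hVW : V ≠ W)
    (hQV : Q ≤ V) :
    ∃ D : Subgroup G, D ≤ V ∧ (∀ U : Subgroup G, IsCoatom U → D ≤ U → U = V) ∧
      ∀ s ∈ D, MulAut.conj s • Q ≤ W := by
  have hsn : SN Q V := h.r3 Q W V hQ hV hQV hVW
  have hW : IsCoatom W := h.coatom _ _ hQ
  have hnV : ¬ V ≤ Subgroup.normalizer (Q : Set G) := by
    intro hle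
    apply hVW
    have h1 : V ≤ W := hle.trans (h.nle _ _ hQ)
    by_contra hne
    exact hW.1 (hV.2 W (lt_of_le_of_ne h1 hne))
  obtain ⟨D, hDV, hQD, hDQ, hs, hD⟩ := exists_C _ V Q rfl hQV hsn hnV
  have hDW : ¬ D ≤ W := by
    intro hle
    apply hDQ
    exact (le_inf hle hDV).trans (h.c6' hQ hV hQV hVW)
  refine ⟨D, hDV, ?_, fun s hs' => (hs s hs').trans (h.nle _ _ hQ)⟩
  intro U hU hDU
  rcases hD with hD | ⟨I, hI, hD⟩
  · rw [hD] at hDU
    by_contra hne
    exact hU.1 (hV.2 U (lt_of_le_of_ne hDU (Ne.symm hne)))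
  · have e : sSup ((fun c => MulAut.conj c • Q) '' I) = D := by
      rw [sSup_image, hD]
    apply h.kl ((fun c => MulAut.conj c • Q) '' I) V
    · rintro C ⟨c, hc, rfl⟩
      refine ⟨MulAut.conj c • W, h.r5 _ _ c hQ, ?_⟩
      rw [e]
      intro hle
      exfalso
      apply hDW
      have h2 : MulAut.conj c • D = D := mem_normalizer_iff_conj.mp (hI c hc)
      rw [← h2] at hle
      have h3 := conj_mono c⁻¹ hle
      rwa [conj_inv_conj, conj_inv_conj] at h3
    · rw [e]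
      have hIne : I.Nonempty := by
        by_contra hemp
        rw [Set.not_nonempty_iff_eq_empty] at hemp
        apply hDQ
        rw [hD, hemp]
        simp
      obtain ⟨c, hc⟩ := hIne
      refine ⟨MulAut.conj c • Q, ⟨c, hc, rfl⟩, ?_⟩
      intro e2
      apply hDQ
      have h1 : Q = D := Subgroup.eq_of_le_of_card_ge hQD (by rw [← e2, card_conj])
      rw [← h1]
      exact Subgroup.le_normalizer
    · rw [e]; exact hDV
    · exact hV.1
    · exact hU
    · exact hV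
    · rw [e]; exact hDU
    · rw [e]; exact hDV

theorem ZCfg.false {G : Type*} [Group G] [Finite G] {Cj : Subgroup G → Subgroup G → Prop}
    (h : ZCfg Cj) {A M L : Subgroup G} (hA : Cj A M) (hL : IsCoatom L) (hAL : A ≤ L)
    (hLM : L ≠ M) (hncl : Subgroup.normalClosure (A : Set G) = ⊤) : False := by
  have hM : IsCoatom M := h.coatom _ _ hA
  have hAM : A ≤ M := h.le _ _ hA
  have hsn : SN A L := h.r3 A M L hA hL hAL hLM
  have hnL : ¬ L ≤ Subgroup.normalizer (A : Set G) := by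
    intro hle
    apply hLM
    have h1 : L ≤ M := hle.trans (h.nle _ _ hA)
    by_contra hne
    exact hM.1 (hL.2 M (lt_of_le_of_ne h1 hne))
  obtain ⟨C₀, hC₀L, hAC₀, hC₀A, hs₀, -⟩ := exists_C _ L A rfl hAL hsn hnL
  obtain ⟨x, hxC₀, hxA⟩ := SetLike.not_le_iff_exists.mp hC₀A
  have hQ : Cj (MulAut.conj x • A) (MulAut.conj x • M) := h.r5 _ _ x hA
  have hQM : MulAut.conj x • A ≤ M := (hs₀ x hxC₀).trans (h.nle _ _ hA)
  have hQA : MulAut.conj x • A ≠ A := fun e => hxA (mem_normalizer_iff_conj.mpr e)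
  have hQL : MulAut.conj x • A ≤ L := by
    have := conj_mono x hAL
    rwa [conj_eq_of_mem (hC₀L hxC₀)] at this
  obtain ⟨hWM, hAW⟩ := h.c7 hA hQ hL hAL hLM hQA hQM hQL
  obtain ⟨Q, hQdef⟩ : ∃ Q, Q = MulAut.conj x • A := ⟨_, rfl⟩
  obtain ⟨W, hWdef⟩ : ∃ W, W = MulAut.conj x • M := ⟨_, rfl⟩
  rw [← hQdef, ← hWdef] at hQ
  rw [← hQdef] at hQM hQA hQL
  rw [← hWdef] at hWM hAW
  have hW : IsCoatom W := h.coatom _ _ hQ
  obtain ⟨D, hDM, hDu, hDs⟩ := h.c9 hQ hM (Ne.symm hWM) hQM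
  obtain ⟨D', hD'W, hD'u, hD's⟩ := h.c9 hA hW hWM hAW
  have hJD : D ≤ Subgroup.normalizer (ZJ Cj M W : Set G) := by
    intro s hs
    apply mem_normalizer_of_conj_le
    have hsM : MulAut.conj s • M = M := conj_eq_of_mem (hDM hs)
    have h1 := h.zj_conj s M W
    rw [hsM] at h1
    have h2 : ZJ Cj M W = ZJ Cj M (MulAut.conj s • W) := by
      apply h.zj_eq hQ (h.r5 _ _ s hQ) hM (Ne.symm hWM)
      · intro e
        apply hWM
        rw [← hsM] at e
        exact (conj_inj s e).symm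
      · exact hQM
      · have := (conj_le_iff s⁻¹).mp (hDs s⁻¹ (D.inv_mem hs))
        rwa [inv_inv] at this
      · have := conj_mono s hQM
        rwa [hsM] at this
      · exact hDs s hs
    rw [← h2] at h1; exact h1
  have hJD' : D' ≤ Subgroup.normalizer (ZJ Cj M W : Set G) := by
    intro s hs
    apply mem_normalizer_of_conj_le
    have hsW : MulAut.conj s • W = W := conj_eq_of_mem (hD'W hs)
    have h1 := h.zj_conj s M W
    rw [hsW] at h1
    have h2 : ZJ Cj M W = ZJ Cj (MulAut.conj s • M) W := by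
      rw [zj_comm Cj M W, zj_comm Cj (MulAut.conj s • M) W]
      apply h.zj_eq hA (h.r5 _ _ s hA) hW hWM
      · intro e
        apply hWM
        rw [← hsW] at e
        exact conj_inj s e
      · exact hAW
      · have := (conj_le_iff s⁻¹).mp (hD's s⁻¹ (D'.inv_mem hs))
        rwa [inv_inv] at this
      · have := conj_mono s hAW
        rwa [hsW] at this
      · exact hD's s hs
    rw [← h2] at h1; exact h1
  have hJtop : Subgroup.normalizer (ZJ Cj M W : Set G) = ⊤ := by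
    by_contra hne
    obtain ⟨U, hU, hNU⟩ := (eq_top_or_exists_le_coatom _).resolve_left hne
    apply hWM
    exact (hD'u U hU (hJD'.trans hNU)).symm.trans (hDu U hU (hJD.trans hNU))
  haveI : (ZJ Cj M W).Normal := Subgroup.normalizer_eq_top_iff.mp hJtop
  have hAJ : A ≤ ZJ Cj M W := le_sSup ⟨⟨M, hA⟩, hAM, hAW⟩
  have hJM : ZJ Cj M W ≤ M := sSup_le (fun C hC => hC.2.1)
  apply hM.1
  rw [eq_top_iff, ← hncl]
  exact (Subgroup.normalClosure_le_normal hAJ).trans hJM

/-- the concrete conjugacy relation: `C` is a conjugate of `A` and `V` the matching conjugate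
of `M` -/
def ZCj {G : Type*} [Group G] (A M C V : Subgroup G) : Prop :=
  ∃ g : G, C = MulAut.conj g • A ∧ V = MulAut.conj g • M

theorem zcfg_of {G : Type*} [Group G] [Finite G] {A M : Subgroup G}
    (hncl : Subgroup.normalClosure (A : Set G) = ⊤)
    (hM : IsCoatom M) (hAM : A ≤ M) (hNAM : Subgroup.normalizer (A : Set G) ≤ M)
    (hNM : Subgroup.normalizer (M : Set G) ≤ M)
    (hC3 : ∀ L : Subgroup G, IsCoatom L → A ≤ L → L ≠ M → SN A L)
    (hKL : ∀ B : Subgroup G, Nat.card A < Nat.card B →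
      Subgroup.normalClosure (B : Set G) = ⊤ → B ≠ ⊤ →
      sSup {K : Subgroup G | B ≤ K ∧ K ≠ ⊤ ∧ Perf B K} = ⊤ ∨
        ∃! U : Subgroup G, IsCoatom U ∧ B ≤ U) :
    ZCfg (ZCj A M) := by
  have r3 : ∀ C V L, ZCj A M C V → IsCoatom L → C ≤ L → L ≠ V → SN C L := by
    rintro C V L ⟨g, rfl, rfl⟩ hL hCL hLV
    have h1 : SN A (MulAut.conj g⁻¹ • L) := by
      apply hC3 _ (isCoatom_conj g⁻¹ hL) ((conj_le_iff g).mp hCL)
      intro e
      apply hLV
      rw [← e, conj_conj_inv]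
    have h2 := sn_conj g h1
    rwa [conj_conj_inv] at h2
  refine ⟨?_, ?_, ?_, r3, ?_, ?_, ?_⟩
  · rintro C V ⟨g, rfl, rfl⟩
    exact conj_mono g hAM
  · rintro C V ⟨g, rfl, rfl⟩
    intro x hx
    rw [Cfsg.Agent.Lead.mem_conj_smul']
    apply hNAM
    rw [mem_normalizer_iff_conj] at hx ⊢
    rw [← conj_mul, ← conj_mul, hx, conj_inv_conj]
  · rintro C V ⟨g, rfl, rfl⟩
    exact isCoatom_conj g hM
  · rintro C C' V ⟨g, rfl, rfl⟩ ⟨k, rfl, hk⟩
    refine ⟨k * g⁻¹, ?_, ?_⟩
    · rw [Cfsg.Agent.Lead.mem_conj_smul']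
      apply hNM
      rw [mem_normalizer_iff_conj]
      have e : g⁻¹ * (k * g⁻¹) * g = g⁻¹ * k := by group
      rw [e, ← conj_mul, ← hk, conj_inv_conj]
    · rw [conj_mul, inv_mul_cancel_right]
  · rintro C V x ⟨g, rfl, rfl⟩
    exact ⟨x * g, by rw [conj_mul], by rw [conj_mul]⟩
  · intro S V₀ hS hex hle hV₀ V V' hV hV' hSV hSV'
    obtain ⟨C₀, hC₀S, hC₀ne⟩ := hex
    obtain ⟨VC₀, ⟨g₀, hg₀, -⟩, -⟩ := hS C₀ hC₀S
    have hC₀B : C₀ ≤ sSup S := le_sSup hC₀S
    have hcard : Nat.card A < Nat.card (sSup S : Subgroup G) := by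
      rw [← card_conj g₀ A, ← hg₀]
      exact card_lt_of_lt (lt_of_le_of_ne hC₀B hC₀ne)
    have hnclB : Subgroup.normalClosure ((sSup S : Subgroup G) : Set G) = ⊤ :=
      ncl_top_of_conj_le g₀ hncl (hg₀ ▸ hC₀B)
    have hBtop : sSup S ≠ ⊤ := fun e => hV₀ (top_le_iff.mp (e ▸ hle))
    rcases hKL (sSup S) hcard hnclB hBtop with h | ⟨U, hU, hUu⟩
    · exfalso
      apply hV₀
      rw [eq_top_iff, ← h]
      apply sSup_le
      rintro K ⟨hBK, hKtop, hPK⟩
      obtain ⟨L, hL, hKL'⟩ := (eq_top_or_exists_le_coatom K).resolve_left hKtop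
      by_cases hex2 : ∃ C ∈ S, ∃ V, ZCj A M C V ∧ (sSup S ≤ V → V ≤ V₀) ∧ L = V
      · obtain ⟨C, hCS, V, hCV, himp, hLV⟩ := hex2
        rw [hLV] at hKL'
        exact hKL'.trans (himp (hBK.trans hKL'))
      · have hsn : SN (sSup S) K := by
          apply sn_sSup
          intro C hCS
          obtain ⟨V, hCV, himp⟩ := hS C hCS
          have hCK : C ≤ K := (le_sSup hCS).trans hBK
          refine ⟨hCK, sn_of_le hKL' (r3 C V L hCV hL (hCK.trans hKL') ?_)⟩
          intro e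
          exact hex2 ⟨C, hCS, V, hCV, himp, e⟩
        have := perf_sn_eq hPK hsn
        rw [this]; exact hle
    · rw [hUu V ⟨hV, hSV⟩, hUu V' ⟨hV', hSV'⟩]

theorem gz {G : Type*} [Group G] [Finite G] : ∀ (n : ℕ) (A : Subgroup G),
    Nat.card G - Nat.card A = n → Subgroup.normalClosure (A : Set G) = ⊤ → A ≠ ⊤ →
    sSup {H : Subgroup G | A ≤ H ∧ H ≠ ⊤ ∧ Perf A H} = ⊤ ∨
      ∃! M : Subgroup G, IsCoatom M ∧ A ≤ M := by
  intro n
  induction n using Nat.strong_induction_on with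
  | _ n ih =>
  intro A hn hncl hAtop
  by_contra hcon
  rw [not_or] at hcon
  obtain ⟨hY, huniq⟩ := hcon
  obtain ⟨Y, hYdef⟩ : ∃ Y, Y = sSup {H : Subgroup G | A ≤ H ∧ H ≠ ⊤ ∧ Perf A H} := ⟨_, rfl⟩
  rw [← hYdef] at hY
  have hAY : A ≤ Y := by rw [hYdef]; exact le_sSup ⟨le_rfl, hAtop, perf_self A⟩
  have hNAY : Subgroup.normalizer (A : Set G) ≤ Subgroup.normalizer (Y : Set G) := by
    intro g hg
    apply mem_normalizer_of_conj_le
    rw [conj_le_iff]
    conv_lhs => rw [hYdef]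
    apply sSup_le
    rintro H ⟨hAH, hHtop, hPH⟩
    rw [← conj_le_iff, hYdef]
    apply le_sSup
    have hgA : MulAut.conj g • A = A := mem_normalizer_iff_conj.mp hg
    refine ⟨?_, conj_ne_top g hHtop, ?_⟩
    · rw [← hgA]; exact conj_mono g hAH
    · have := perf_conj g hPH
      rwa [hgA] at this
  have hNY : Subgroup.normalizer (Y : Set G) ≠ ⊤ := by
    intro e
    haveI : Y.Normal := Subgroup.normalizer_eq_top_iff.mp e
    apply hY
    rw [eq_top_iff, ← hncl]
    exact Subgroup.normalClosure_le_normal hAY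
  obtain ⟨M, hM, hNYM⟩ := (eq_top_or_exists_le_coatom _).resolve_left hNY
  have hYM : Y ≤ M := Subgroup.le_normalizer.trans hNYM
  have hAM : A ≤ M := hAY.trans hYM
  have hNAM : Subgroup.normalizer (A : Set G) ≤ M := hNAY.trans hNYM
  have hNM : Subgroup.normalizer (M : Set G) ≤ M := by
    by_contra hne
    have hlt : M < Subgroup.normalizer (M : Set G) := lt_of_le_of_ne Subgroup.le_normalizer
      (fun e => hne (le_of_eq e.symm))
    have e := hM.2 _ hlt
    haveI : M.Normal := Subgroup.normalizer_eq_top_iff.mp e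
    apply hM.1
    rw [eq_top_iff, ← hncl]
    exact Subgroup.normalClosure_le_normal hAM
  have hC3 : ∀ L : Subgroup G, IsCoatom L → A ≤ L → L ≠ M → SN A L := by
    intro L hL hAL hLM
    rcases sn_or_perf _ L A rfl hAL with h | ⟨T, hTL, hTA, hPT⟩
    · exact h
    · exfalso
      have hTtop : T ≠ ⊤ := fun e => hL.1 (top_le_iff.mp (e ▸ hTL))
      have hTY : T ≤ Y := by rw [hYdef]; exact le_sSup ⟨hPT.1, hTtop, hPT⟩
      have hAT : A < T := lt_of_le_of_ne hPT.1 (Ne.symm hTA)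
      have hlt : Nat.card G - Nat.card T < n := by
        rw [← hn]
        have h1 := card_lt_of_lt hAT
        have h2 : Nat.card T ≤ Nat.card G := Subgroup.card_le_card_group T
        omega
      have hnclT : Subgroup.normalClosure (T : Set G) = ⊤ := by
        rw [eq_top_iff, ← hncl]
        exact Subgroup.normalClosure_mono hPT.1
      rcases ih _ hlt T rfl hnclT hTtop with h | ⟨U, hU, hUu⟩
      · apply hY
        rw [eq_top_iff, ← h]
        apply sSup_le
        rintro H ⟨hTH, hHtop, hPH⟩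
        rw [hYdef]
        exact le_sSup ⟨hPT.1.trans hTH, hHtop, perf_trans hPT hPH⟩
      · apply hLM
        rw [hUu L ⟨hL, hTL⟩, hUu M ⟨hM, hTY.trans hYM⟩]
  have hKL : ∀ B : Subgroup G, Nat.card A < Nat.card B →
      Subgroup.normalClosure (B : Set G) = ⊤ → B ≠ ⊤ →
      sSup {K : Subgroup G | B ≤ K ∧ K ≠ ⊤ ∧ Perf B K} = ⊤ ∨
        ∃! U : Subgroup G, IsCoatom U ∧ B ≤ U := by
    intro B hcard hnclB hBtop
    have hlt : Nat.card G - Nat.card B < n := by
      rw [← hn]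
      have h2 : Nat.card B ≤ Nat.card G := Subgroup.card_le_card_group B
      omega
    exact ih _ hlt B rfl hnclB hBtop
  have hcfg := zcfg_of hncl hM hAM hNAM hNM hC3 hKL
  have hex : ∃ L, IsCoatom L ∧ A ≤ L ∧ L ≠ M := by
    by_contra hno
    apply huniq
    refine ⟨M, ⟨hM, hAM⟩, fun L hL => ?_⟩
    by_contra hne
    exact hno ⟨L, hL.1, hL.2, hne⟩
  obtain ⟨L, hL, hAL, hLM⟩ := hex
  have hAj : ZCj A M A M := ⟨1, by rw [conj_one], by rw [conj_one]⟩
  exact hcfg.false hAj hL hAL hLM hncl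

theorem gen_zipper {G : Type*} [Group G] [Finite G] (A : Subgroup G)
    (hA : Subgroup.normalClosure (A : Set G) = ⊤) (hAG : A ≠ ⊤) :
    sSup {H : Subgroup G | A ≤ H ∧ H ≠ ⊤ ∧
        Subgroup.normalClosure ((A.subgroupOf H : Subgroup ↥H) : Set ↥H) = ⊤} = ⊤ ∨
      ∃! M : Subgroup G, IsCoatom M ∧ A ≤ M := by
  have e : {H : Subgroup G | A ≤ H ∧ H ≠ ⊤ ∧
        Subgroup.normalClosure ((A.subgroupOf H : Subgroup ↥H) : Set ↥H) = ⊤}
      = {H : Subgroup G | A ≤ H ∧ H ≠ ⊤ ∧ Perf A H} := by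
    ext H
    constructor
    · rintro ⟨h1, h2, h3⟩
      exact ⟨h1, h2, (perf_iff A H h1).mp h3⟩
    · rintro ⟨h1, h2, h3⟩
      exact ⟨h1, h2, (perf_iff A H h1).mpr h3⟩
  rw [e]
  exact gz _ A rfl hA hAG

end Cfsg.Agent.Helper19
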