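import Mathlib
import Cfsg.Agent.Helper19.Zipper

set_option autoImplicit false
open scoped Pointwise

namespace Cfsg.Agent.Helper19

universe u

/-- If the normal closure of `a` is the whole finite group `Γ`, then the iterated
"commutator-conjugates" `y ↦ y a y⁻¹` still generate `Γ`. -/
theorem engel_gen : ∀ (n : ℕ) (Γ : Type u) [Group Γ] [Finite Γ] (a : Γ),
    Nat.card Γ = n → Subgroup.normalClosure ({a} : Set Γ) = ⊤ → ∀ k : ℕ,
    Subgroup.closure (Set.range ((fun y : Γ => y * a * y⁻¹)^[k])) = ⊤ := by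
  intro n
  induction n using Nat.strong_induction_on with
  | _ n ih =>
  intro Γ _ _ a hn hncl k
  by_contra hM
  obtain ⟨M, hMdef⟩ : ∃ M, M = Subgroup.closure (Set.range ((fun y : Γ => y * a * y⁻¹)^[k])) :=
    ⟨_, rfl⟩
  rw [← hMdef] at hM
  have hk : k ≠ 0 := by
    rintro rfl
    apply hM
    rw [hMdef]
    simp
  have hfix : ∀ j, 1 ≤ j → (fun y : Γ => y * a * y⁻¹)^[j] 1 = a := by
    intro j hj
    induction j with
    | zero => omega
    | succ j ihj =>
      rw [Function.iterate_succ_apply']
      by_cases hj0 : j = 0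
      · subst hj0; simp
      · rw [ihj (by omega)]; simp
  have haM : a ∈ M := by
    rw [hMdef]
    apply Subgroup.subset_closure
    exact ⟨1, hfix k (by omega)⟩
  obtain ⟨A, hAdef⟩ : ∃ A, A = Subgroup.zpowers a := ⟨_, rfl⟩
  have haA : a ∈ A := by rw [hAdef]; exact Subgroup.mem_zpowers a
  have hAM : A ≤ M := by rw [hAdef, Subgroup.zpowers_le]; exact haM
  have hAtop : A ≠ ⊤ := fun e => hM (top_le_iff.mp (e ▸ hAM))
  have hnclA : Subgroup.normalClosure (A : Set Γ) = ⊤ := by
    rw [eq_top_iff, ← hncl]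
    apply Subgroup.normalClosure_mono
    rw [Set.singleton_subset_iff]; exact haA
  have hHM : ∀ H : Subgroup Γ, A ≤ H → H ≠ ⊤ →
      Subgroup.normalClosure ((A.subgroupOf H : Subgroup ↥H) : Set ↥H) = ⊤ → H ≤ M := by
    intro H hAH hHtop hH
    have haH : a ∈ H := hAH haA
    have hlt : Nat.card H < n := by
      rw [← hn]
      apply lt_of_le_of_ne (Subgroup.card_le_card_group H)
      intro e
      exact hHtop (Subgroup.eq_top_of_card_eq H e)
    have hncl' : Subgroup.normalClosure ({(⟨a, haH⟩ : ↥H)} : Set ↥H) = ⊤ := by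
      rw [eq_top_iff, ← hH]
      apply Subgroup.normalClosure_le_normal
      intro z hz
      rw [SetLike.mem_coe, Subgroup.mem_subgroupOf, hAdef] at hz
      obtain ⟨i, hi⟩ := Subgroup.mem_zpowers_iff.mp hz
      have e : z = (⟨a, haH⟩ : ↥H) ^ i := Subtype.ext (by simp [← hi])
      rw [e]
      exact Subgroup.zpow_mem _ (Subgroup.subset_normalClosure (Set.mem_singleton _)) i
    have h1 := ih _ hlt ↥H ⟨a, haH⟩ rfl hncl' k
    have hsemi : Function.Semiconj (Subtype.val : ↥H → Γ)
        (fun y : ↥H => y * ⟨a, haH⟩ * y⁻¹) (fun y : Γ => y * a * y⁻¹) := by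
      intro y
      simp
    have hsemik := hsemi.iterate_right k
    intro h hh
    have h3 : (⟨h, hh⟩ : ↥H) ∈ Subgroup.closure
        (Set.range ((fun y : ↥H => y * ⟨a, haH⟩ * y⁻¹)^[k])) := by
      rw [h1]; exact Subgroup.mem_top _
    have h4 : H.subtype ⟨h, hh⟩ ∈ (Subgroup.closure
        (Set.range ((fun y : ↥H => y * ⟨a, haH⟩ * y⁻¹)^[k]))).map H.subtype :=
      Subgroup.mem_map_of_mem _ h3
    rw [MonoidHom.map_closure] at h4
    rw [hMdef]
    refine Subgroup.closure_mono ?_ h4
    rintro _ ⟨_, ⟨y, rfl⟩, rfl⟩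
    exact ⟨(y : Γ), (hsemik y).symm⟩
  rcases gen_zipper A hnclA hAtop with hY | ⟨U, ⟨hU, hAU⟩, hUu⟩
  · apply hM
    rw [eq_top_iff, ← hY]
    apply sSup_le
    rintro H ⟨h1, h2, h3⟩
    exact hHM H h1 h2 h3
  · obtain ⟨U', hU', hMU'⟩ := (eq_top_or_exists_le_coatom M).resolve_left hM
    have hU'U : U' = U := hUu U' ⟨hU', hAM.trans hMU'⟩
    rw [hU'U] at hMU'
    have hNU : Subgroup.normalizer (U : Set Γ) ≤ U := by
      by_contra hne
      have hlt : U < Subgroup.normalizer (U : Set Γ) :=
        lt_of_le_of_ne Subgroup.le_normalizer (fun e => hne (le_of_eq e.symm))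
      have e := hU.2 _ hlt
      haveI : U.Normal := Subgroup.normalizer_eq_top_iff.mp e
      apply hU.1
      rw [eq_top_iff, ← hnclA]
      exact Subgroup.normalClosure_le_normal hAU
    have key : ∀ j : ℕ, ∀ y : Γ, (fun y : Γ => y * a * y⁻¹)^[j] y ∈ U → y ∈ U := by
      intro j
      induction j with
      | zero => intro y hy; exact hy
      | succ j ihj =>
        intro y hy
        rw [Function.iterate_succ_apply'] at hy
        apply ihj
        obtain ⟨x, hx⟩ : ∃ x, x = (fun y : Γ => y * a * y⁻¹)^[j] y := ⟨_, rfl⟩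
        rw [← hx] at hy ⊢
        have h1 : a ∈ MulAut.conj x⁻¹ • U := by
          rw [Cfsg.Agent.Lead.mem_conj_smul']
          simpa using hy
        have h2 : MulAut.conj x⁻¹ • U = U :=
          hUu _ ⟨isCoatom_conj x⁻¹ hU, by rw [hAdef, Subgroup.zpowers_le]; exact h1⟩
        have h3 : x⁻¹ ∈ U := hNU (mem_normalizer_iff_conj.mpr h2)
        simpa using U.inv_mem h3
    apply hU.1
    rw [eq_top_iff]
    intro y _
    apply key k y
    apply hMU'
    rw [hMdef]
    exact Subgroup.subset_closure ⟨y, rfl⟩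

theorem iter_comm_gen {G : Type u} [Group G] [Finite G] (α : MulAut G)
    (hG : Subgroup.closure (Set.range (fun c : G => c * (α c)⁻¹)) = ⊤) (k : ℕ) :
    Subgroup.closure (Set.range ((fun c : G => c * (α c)⁻¹)^[k])) = ⊤ := by
  classical
  obtain ⟨f, hf⟩ : ∃ f : G → G, f = fun c : G => c * (α c)⁻¹ := ⟨_, rfl⟩
  rw [← hf] at hG ⊢
  obtain ⟨a', ha'⟩ : ∃ a' : ↥(Subgroup.zpowers α), a' = ⟨α, Subgroup.mem_zpowers α⟩ := ⟨_, rfl⟩
  have hcomm : ∀ z : ↥(Subgroup.zpowers α), z * a' = a' * z := by
    intro z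
    obtain ⟨i, hi⟩ := Subgroup.mem_zpowers_iff.mp z.2
    apply Subtype.ext
    rw [ha']
    simp only [Subgroup.coe_mul, ← hi]
    exact (Commute.zpow_self α i).eq
  have hzpow : ∀ z : ↥(Subgroup.zpowers α), ∃ i : ℤ, z = a' ^ i := by
    intro z
    obtain ⟨i, hi⟩ := Subgroup.mem_zpowers_iff.mp z.2
    refine ⟨i, Subtype.ext ?_⟩
    rw [ha']
    simp [← hi]
  haveI : Finite (G ⋊[(Subgroup.zpowers α).subtype] ↥(Subgroup.zpowers α)) :=
    Finite.of_equiv _ SemidirectProduct.equivProd.symm
  obtain ⟨a, ha⟩ : ∃ a : G ⋊[(Subgroup.zpowers α).subtype] ↥(Subgroup.zpowers α),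
      a = SemidirectProduct.inr a' := ⟨_, rfl⟩
  have hψ : ∀ x : G ⋊[(Subgroup.zpowers α).subtype] ↥(Subgroup.zpowers α),
      x * a * x⁻¹ = SemidirectProduct.inl (f x.left) * a := by
    intro x
    have h1 : x.right * a' * x.right⁻¹ = a' := by
      rw [hcomm x.right, mul_inv_cancel_right]
    apply SemidirectProduct.ext
    · rw [ha, hf]
      simp only [SemidirectProduct.mul_left, SemidirectProduct.mul_right,
        SemidirectProduct.inv_left, SemidirectProduct.left_inl,
        SemidirectProduct.right_inl, SemidirectProduct.left_inr, SemidirectProduct.right_inr,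
        map_one, mul_one, ← MulAut.mul_apply, ← map_mul]
      rw [h1, ha']
      simp
    · rw [ha]
      simp only [SemidirectProduct.mul_right, SemidirectProduct.inv_right,
        SemidirectProduct.right_inl, SemidirectProduct.right_inr, one_mul]
      exact h1
  have hleft : ∀ (j : ℕ) (x : G ⋊[(Subgroup.zpowers α).subtype] ↥(Subgroup.zpowers α)),
      (((fun y : G ⋊[(Subgroup.zpowers α).subtype] ↥(Subgroup.zpowers α) =>
        y * a * y⁻¹)^[j]) x).left = f^[j] x.left := by
    intro j
    induction j with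
    | zero => intro x; rfl
    | succ j ihj =>
      intro x
      rw [Function.iterate_succ_apply', Function.iterate_succ_apply', hψ, ← ihj x, ha]
      simp
  have hncl : Subgroup.normalClosure
      ({a} : Set (G ⋊[(Subgroup.zpowers α).subtype] ↥(Subgroup.zpowers α))) = ⊤ := by
    have haK : a ∈ Subgroup.normalClosure
        ({a} : Set (G ⋊[(Subgroup.zpowers α).subtype] ↥(Subgroup.zpowers α))) :=
      Subgroup.subset_normalClosure (Set.mem_singleton _)
    have h1 : ∀ c : G, SemidirectProduct.inl (f c) ∈ Subgroup.normalClosure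
        ({a} : Set (G ⋊[(Subgroup.zpowers α).subtype] ↥(Subgroup.zpowers α))) := by
      intro c
      have h2 := Subgroup.normalClosure_normal.conj_mem a haK
        (SemidirectProduct.inl c : G ⋊[(Subgroup.zpowers α).subtype] ↥(Subgroup.zpowers α))
      rw [hψ] at h2
      have h3 := Subgroup.mul_mem _ h2 (Subgroup.inv_mem _ haK)
      simpa using h3
    have h2 : ∀ g : G, SemidirectProduct.inl g ∈ Subgroup.normalClosure
        ({a} : Set (G ⋊[(Subgroup.zpowers α).subtype] ↥(Subgroup.zpowers α))) := by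
      intro g
      have hg : g ∈ Subgroup.closure (Set.range f) := by rw [hG]; exact Subgroup.mem_top _
      have hle : Subgroup.closure (Set.range f) ≤ (Subgroup.normalClosure
          ({a} : Set (G ⋊[(Subgroup.zpowers α).subtype] ↥(Subgroup.zpowers α)))).comap
          SemidirectProduct.inl := by
        rw [Subgroup.closure_le]
        rintro _ ⟨c, rfl⟩
        exact h1 c
      exact hle hg
    have h3 : ∀ z : ↥(Subgroup.zpowers α), SemidirectProduct.inr z ∈ Subgroup.normalClosure
        ({a} : Set (G ⋊[(Subgroup.zpowers α).subtype] ↥(Subgroup.zpowers α))) := by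
      intro z
      obtain ⟨i, hi⟩ := hzpow z
      rw [hi, map_zpow, ← ha]
      exact Subgroup.zpow_mem _ haK i
    rw [eq_top_iff]
    intro x _
    rw [← SemidirectProduct.inl_left_mul_inr_right x]
    exact Subgroup.mul_mem _ (h2 _) (h3 _)
  have hmain := engel_gen _ (G ⋊[(Subgroup.zpowers α).subtype] ↥(Subgroup.zpowers α)) a rfl
    hncl k
  have hstab : ∀ β : MulAut G, β * α = α * β →
      ∀ g ∈ Subgroup.closure (Set.range (f^[k])), β g ∈ Subgroup.closure (Set.range (f^[k])) := by
    intro β hβ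
    have hsemi : Function.Semiconj (β : G → G) f f := by
      intro c
      rw [hf]
      have e : β (α c) = α (β c) := by
        rw [← MulAut.mul_apply, hβ, MulAut.mul_apply]
      simp only [map_mul, map_inv, e]
    have hsemik := hsemi.iterate_right k
    have hle : Subgroup.closure (Set.range (f^[k])) ≤
        (Subgroup.closure (Set.range (f^[k]))).comap β.toMonoidHom := by
      rw [Subgroup.closure_le]
      rintro _ ⟨y, rfl⟩
      rw [SetLike.mem_coe, Subgroup.mem_comap]
      apply Subgroup.subset_closure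
      exact ⟨β y, (hsemik y).symm⟩
    intro g hg
    exact hle hg
  have hstabZ : ∀ z : ↥(Subgroup.zpowers α),
      ∀ g ∈ Subgroup.closure (Set.range (f^[k])),
        (z : MulAut G) g ∈ Subgroup.closure (Set.range (f^[k])) := by
    intro z
    apply hstab
    obtain ⟨i, hi⟩ := Subgroup.mem_zpowers_iff.mp z.2
    rw [← hi]
    exact (Commute.zpow_self α i).eq
  have hall : ∀ x ∈ Subgroup.closure (Set.range
      ((fun y : G ⋊[(Subgroup.zpowers α).subtype] ↥(Subgroup.zpowers α) => y * a * y⁻¹)^[k])),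
      x.left ∈ Subgroup.closure (Set.range (f^[k])) := by
    intro x hx
    induction hx using Subgroup.closure_induction with
    | mem x hx =>
      obtain ⟨y, rfl⟩ := hx
      rw [hleft]
      exact Subgroup.subset_closure ⟨_, rfl⟩
    | one => rw [SemidirectProduct.one_left]; exact Subgroup.one_mem _
    | mul x y _ _ hx hy =>
      rw [SemidirectProduct.mul_left]
      exact Subgroup.mul_mem _ hx (hstabZ _ _ hy)
    | inv x _ hx =>
      rw [SemidirectProduct.inv_left]
      exact hstabZ x.right⁻¹ _ (Subgroup.inv_mem _ hx)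
  rw [eq_top_iff]
  intro g _
  have := hall (SemidirectProduct.inl g) (by rw [hmain]; exact Subgroup.mem_top _)
  simpa using this

end Cfsg.Agent.Helper19
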