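import Mathlib
import Cfsg.Agent.Helper19.Fpf3b
import Cfsg.Agent.S0242
import Cfsg.Agent.Helper4.Simple168b
import Cfsg.Agent.Helper27.MaxClassTwo

/-!
The Heisenberg group over the field of four elements, its embedding as a Sylow
2-subgroup of `PSL(3, 4)`, and the identification of the groups of `Fpf3a`/`Fpf3b` with it.
-/

set_option autoImplicit false

namespace Cfsg.Agent.Helper19.Fpf3

/-- A concrete model of the field with four elements: `0, 1, ω, ω + 1`. -/
inductive F4 : Type
  | z | o | w | v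
  deriving DecidableEq

instance F4.instFintype : Fintype F4 where
  elems := ⟨↑[F4.z, F4.o, F4.w, F4.v], by decide⟩
  complete := fun x => by cases x <;> decide

namespace F4

def add : F4 → F4 → F4
  | .z, .z => .z
  | .z, .o => .o
  | .z, .w => .w
  | .z, .v => .v
  | .o, .z => .o
  | .o, .o => .z
  | .o, .w => .v
  | .o, .v => .w
  | .w, .z => .w
  | .w, .o => .v
  | .w, .w => .z
  | .w, .v => .o
  | .v, .z => .v
  | .v, .o => .w
  | .v, .w => .o
  | .v, .v => .z

def mul : F4 → F4 → F4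
  | .z, .z => .z
  | .z, .o => .z
  | .z, .w => .z
  | .z, .v => .z
  | .o, .z => .z
  | .o, .o => .o
  | .o, .w => .w
  | .o, .v => .v
  | .w, .z => .z
  | .w, .o => .w
  | .w, .w => .v
  | .w, .v => .o
  | .v, .z => .z
  | .v, .o => .v
  | .v, .w => .o
  | .v, .v => .w

def inv : F4 → F4
  | .z => .z
  | .o => .o
  | .w => .v
  | .v => .w

instance instZero : Zero F4 := ⟨.z⟩
instance instOne : One F4 := ⟨.o⟩
instance instAdd : Add F4 := ⟨add⟩
instance instMul : Mul F4 := ⟨mul⟩
instance instNeg : Neg F4 := ⟨id⟩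
instance instInv : Inv F4 := ⟨inv⟩

instance instCommRing : CommRing F4 where
  add := (· + ·)
  add_assoc := by decide
  zero := 0
  zero_add := by decide
  add_zero := by decide
  nsmul := nsmulRec
  neg := Neg.neg
  zsmul := zsmulRec
  neg_add_cancel := by decide
  add_comm := by decide
  mul := (· * ·)
  left_distrib := by decide
  right_distrib := by decide
  zero_mul := by decide
  mul_zero := by decide
  mul_assoc := by decide
  one := 1
  one_mul := by decide
  mul_one := by decide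
  mul_comm := by decide

instance instField : Field F4 where
  inv := Inv.inv
  exists_pair_ne := ⟨.z, .o, by decide⟩
  mul_inv_cancel := by decide
  inv_zero := rfl
  nnqsmul := _
  nnqsmul_def := fun _ _ => rfl
  qsmul := _
  qsmul_def := fun _ _ => rfl

theorem card_eq : Fintype.card F4 = 4 := by decide

theorem frob_add : ∀ a b : F4, (a + b) * (a + b) = a * a + b * b := by decide

end F4

/-- the Heisenberg group over `F4` -/
@[ext] structure Hs where
  l : F4
  m : F4
  n : F4

namespace Hs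

instance instMul : Mul Hs := ⟨fun g h => ⟨g.l + h.l, g.m + h.m, g.n + h.n + g.m * h.l⟩⟩
instance instOne : One Hs := ⟨⟨0, 0, 0⟩⟩
instance instInv : Inv Hs := ⟨fun g => ⟨-g.l, -g.m, -g.n + g.m * g.l⟩⟩

theorem mul_l (g h : Hs) : (g * h).l = g.l + h.l := rfl
theorem mul_m (g h : Hs) : (g * h).m = g.m + h.m := rfl
theorem mul_n (g h : Hs) : (g * h).n = g.n + h.n + g.m * h.l := rfl
theorem one_l : (1 : Hs).l = 0 := rfl
theorem one_m : (1 : Hs).m = 0 := rfl
theorem one_n : (1 : Hs).n = 0 := rfl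
theorem inv_l (g : Hs) : (g⁻¹).l = -g.l := rfl
theorem inv_m (g : Hs) : (g⁻¹).m = -g.m := rfl
theorem inv_n (g : Hs) : (g⁻¹).n = -g.n + g.m * g.l := rfl

instance instGroup : Group Hs :=
  Group.ofLeftAxioms
    (fun a b c => by
      ext
      · simp only [mul_l]; ring
      · simp only [mul_m]; ring
      · simp only [mul_l, mul_m, mul_n]; ring)
    (fun a => by
      ext
      · simp only [mul_l, one_l]; ring
      · simp only [mul_m, one_m]; ring
      · simp only [mul_n, one_n, one_m]; ring)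
    (fun a => by
      ext
      · simp only [mul_l, inv_l, one_l]; ring
      · simp only [mul_m, inv_m, one_m]; ring
      · simp only [mul_n, inv_n, inv_m, one_n]; ring)

/-- the underlying triple -/
def equivProd : Hs ≃ F4 × F4 × F4 where
  toFun h := (h.l, h.m, h.n)
  invFun p := ⟨p.1, p.2.1, p.2.2⟩
  left_inv _ := rfl
  right_inv _ := rfl

instance instFinite : Finite Hs := Finite.of_equiv _ equivProd.symm

theorem card_eq : Nat.card Hs = 64 := by
  rw [Nat.card_congr equivProd, Nat.card_prod, Nat.card_prod, Nat.card_eq_fintype_card,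
    F4.card_eq]

end Hs

/-- the unitriangular matrix of an element -/
def toMat (h : Hs) : Matrix (Fin 3) (Fin 3) F4 := !![1, h.m, h.n; 0, 1, h.l; 0, 0, 1]

theorem toMat_det (h : Hs) : (toMat h).det = 1 := by
  simp [toMat, Matrix.det_fin_three]

theorem toMat_mul (g h : Hs) : toMat (g * h) = toMat g * toMat h := by
  ext i j
  fin_cases i <;> fin_cases j <;>
    simp [toMat, Matrix.mul_apply, Fin.sum_univ_three, Hs.mul_l, Hs.mul_m, Hs.mul_n] <;> ring

theorem toMat_one : toMat 1 = 1 := by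
  ext i j
  fin_cases i <;> fin_cases j <;> simp [toMat, Hs.one_l, Hs.one_m, Hs.one_n]

/-- the embedding into `SL(3, 4)` -/
def toSL : Hs →* Matrix.SpecialLinearGroup (Fin 3) F4 where
  toFun h := ⟨toMat h, toMat_det h⟩
  map_one' := Subtype.ext toMat_one
  map_mul' g h := Subtype.ext (toMat_mul g h)

theorem toPSL_inj : Function.Injective
    ((QuotientGroup.mk' (Subgroup.center (Matrix.SpecialLinearGroup (Fin 3) F4))).comp
      toSL) := by
  rw [injective_iff_map_eq_one]
  intro h hh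
  have h1 : toSL h ∈ Subgroup.center (Matrix.SpecialLinearGroup (Fin 3) F4) := by
    have : (QuotientGroup.mk' (Subgroup.center (Matrix.SpecialLinearGroup (Fin 3) F4)))
        (toSL h) = 1 := hh
    rwa [QuotientGroup.mk'_apply, QuotientGroup.eq_one_iff] at this
  rw [Matrix.SpecialLinearGroup.mem_center_iff] at h1
  obtain ⟨r, -, hr⟩ := h1
  have hm : Matrix.scalar (Fin 3) r = toMat h := hr
  have e1 := congrFun (congrFun hm 0) 1
  have e2 := congrFun (congrFun hm 0) 2
  have e3 := congrFun (congrFun hm 1) 2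
  simp [toMat, Matrix.scalar_apply, Matrix.diagonal] at e1 e2 e3
  exact Hs.ext e3.symm e1.symm e2.symm

theorem exists_sylow :
    ∃ S : Sylow 2 (Matrix.ProjectiveSpecialLinearGroup (Fin 3) F4),
      Nonempty (Hs ≃* (S : Subgroup (Matrix.ProjectiveSpecialLinearGroup (Fin 3) F4))) := by
  have : Fact (Nat.Prime 2) := ⟨Nat.prime_two⟩
  let f : Hs →* Matrix.ProjectiveSpecialLinearGroup (Fin 3) F4 :=
    (QuotientGroup.mk' (Subgroup.center (Matrix.SpecialLinearGroup (Fin 3) F4))).comp toSL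
  have hf : Function.Injective f := toPSL_inj
  have hcr : Nat.card f.range = 64 := by
    rw [← Nat.card_congr (MonoidHom.ofInjective hf).toEquiv, Hs.card_eq]
  have hSL : Nat.card (Matrix.SpecialLinearGroup (Fin 3) F4) = 60480 := by
    have h := Cfsg.Agent.S0242.result (F := F4) F4.card_eq 3 (by norm_num)
    have hp : (∏ i : Fin 3, (4 ^ 3 - 4 ^ (i : ℕ))) = 181440 := by
      rw [Fin.prod_univ_three]; rfl
    rw [hp] at h
    have h' : 3 * Nat.card (Matrix.SpecialLinearGroup (Fin 3) F4) = 181440 := h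
    omega
  have hfin : Finite (Matrix.ProjectiveSpecialLinearGroup (Fin 3) F4) :=
    inferInstanceAs (Finite (Matrix.SpecialLinearGroup (Fin 3) F4 ⧸
      Subgroup.center (Matrix.SpecialLinearGroup (Fin 3) F4)))
  have hd1 : 64 ∣ Nat.card (Matrix.ProjectiveSpecialLinearGroup (Fin 3) F4) :=
    hcr ▸ Subgroup.card_subgroup_dvd_card f.range
  have hd2 : Nat.card (Matrix.ProjectiveSpecialLinearGroup (Fin 3) F4) ∣ 60480 :=
    hSL ▸ Subgroup.card_quotient_dvd_card
      (Subgroup.center (Matrix.SpecialLinearGroup (Fin 3) F4))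
  have hne : Nat.card (Matrix.ProjectiveSpecialLinearGroup (Fin 3) F4) ≠ 0 :=
    Nat.card_pos.ne'
  have hfac : (Nat.card (Matrix.ProjectiveSpecialLinearGroup (Fin 3) F4)).factorization 2
      = 6 := by
    have h1 : 6 ≤ (Nat.card (Matrix.ProjectiveSpecialLinearGroup (Fin 3) F4)).factorization 2 :=
      (Nat.Prime.pow_dvd_iff_le_factorization Nat.prime_two hne).mp hd1
    have h2 : ¬ 7 ≤
        (Nat.card (Matrix.ProjectiveSpecialLinearGroup (Fin 3) F4)).factorization 2 := by
      intro h7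
      have h8 := (Nat.Prime.pow_dvd_iff_le_factorization Nat.prime_two hne).mpr h7
      have h9 := h8.trans hd2
      norm_num at h9
    omega
  have hrange : Nat.card f.range =
      2 ^ (Nat.card (Matrix.ProjectiveSpecialLinearGroup (Fin 3) F4)).factorization 2 := by
    rw [hfac, hcr]; norm_num
  exact ⟨Sylow.ofCard f.range hrange, ⟨MonoidHom.ofInjective hf⟩⟩

theorem model : ∃ (F : Type) (_ : Field F) (_ : Fintype F), Fintype.card F = 4 ∧
    ∃ S : Sylow 2 (Matrix.ProjectiveSpecialLinearGroup (Fin 3) F),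
      Nonempty (Hs ≃* ↥(S : Subgroup (Matrix.ProjectiveSpecialLinearGroup (Fin 3) F))) :=
  ⟨F4, F4.instField, F4.instFintype, F4.card_eq, exists_sylow⟩

theorem heis_aux {G : Type*} [Group G] (p q p' q' z1 z2 z3 : G) (hz1 : ∀ t, t * z1 = z1 * t)
    (hz3 : ∀ t, t * z3 = z3 * t) (hq : q * p' = z3 * p' * q) :
    p * p' * (q * q') * (z1 * z2 * z3) = p * q * z1 * (p' * q' * z2) := by
  symm
  calc p * q * z1 * (p' * q' * z2)
      = p * q * (z1 * (p' * q' * z2)) := by group
    _ = p * q * ((p' * q' * z2) * z1) := by rw [← hz1 (p' * q' * z2)]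
    _ = p * (q * p') * q' * (z2 * z1) := by group
    _ = p * (z3 * p' * q) * q' * (z2 * z1) := by rw [hq]
    _ = (p * z3) * (p' * q * q' * (z2 * z1)) := by group
    _ = (z3 * p) * (p' * q * q' * (z2 * z1)) := by rw [hz3 p]
    _ = z3 * (p * p' * (q * q') * (z2 * z1)) := by group
    _ = (p * p' * (q * q') * (z2 * z1)) * z3 := by
        rw [← hz3 (p * p' * (q * q') * (z2 * z1))]
    _ = p * p' * (q * q') * ((z2 * z1) * z3) := by group
    _ = p * p' * (q * q') * (z1 * z2 * z3) := by rw [hz1 z2]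

section phi

variable {T : Type*} [Group T] [Finite T] (ρ : MulAut T)

/-- the action of the field of four elements -/
def pw (k : F4) (t : T) : T :=
  match k with
  | .z => 1
  | .o => t
  | .w => ρ t
  | .v => ρ (ρ t)

/-- the central factor -/
def Zf (c : T) (n : F4) : T := pw ρ (n * n) c

/-- the comparison map -/
def Phi (a b : T) (h : Hs) : T := pw ρ h.l a * pw ρ h.m b * Zf ρ (cm b a) h.n

variable (h3 : ∀ t, ρ (ρ (ρ t)) = t) (hfp : ∀ y : T, ρ y = y → y = 1)

include h3 in
omit [Finite T] in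
theorem pw_mem_center (c : T) (hc : c ∈ Subgroup.center T) (k : F4) :
    pw ρ k c ∈ Subgroup.center T := by
  cases k
  · exact one_mem _
  · exact hc
  · exact center_inv ρ h3 _ hc
  · exact center_inv ρ h3 _ (center_inv ρ h3 _ hc)

include h3 in
theorem Zf_eq_one (c : T) (hc1 : c ≠ 1) (n : F4) (h : Zf ρ c n = 1) : n = 0 := by
  cases n
  · rfl
  · exact absurd h hc1
  · exact absurd h (rho_ne_one ρ h3 (rho_ne_one ρ h3 hc1))
  · exact absurd h (rho_ne_one ρ h3 hc1)

include h3 hfp

theorem pw_add (t : T) (ht : t * t = 1) (k k' : F4) :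
    pw ρ (k + k') t = pw ρ k t * pw ρ k' t := by
  obtain ⟨hr, hs, e1, e2, e3, e4, e5, e6⟩ := klein ρ h3 hfp t ht
  cases k <;> cases k' <;>
    first
    | exact (one_mul _).symm
    | exact (mul_one _).symm
    | exact ht.symm
    | exact hr.symm
    | exact hs.symm
    | exact e1.symm
    | exact e2.symm
    | exact e3.symm
    | exact e4.symm
    | exact e5.symm
    | exact e6.symm

theorem Zf_add (c : T) (hcc : c * c = 1) (n n' : F4) :
    Zf ρ c (n + n') = Zf ρ c n * Zf ρ c n' := by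
  unfold Zf
  rw [F4.frob_add, pw_add ρ h3 hfp c hcc]

variable (hsq : ∀ t : T, t ^ 2 ∈ Subgroup.center T)
  (hz2 : ∀ z ∈ Subgroup.center T, z ^ 2 = 1)

include hsq hz2

theorem pw_cm (a b : T) (m l : F4) :
    cm (pw ρ m b) (pw ρ l a) = pw ρ ((m * l) * (m * l)) (cm b a) := by
  have bl := fun u v => (bil ρ h3 hfp hsq hz2 u v).1
  have br := fun u v => (bil ρ h3 hfp hsq hz2 u v).2
  have e_ow : cm b (ρ a) = ρ (ρ (cm b a)) := br b a
  have e_ov : cm b (ρ (ρ a)) = ρ (cm b a) := br2 ρ h3 hfp hsq hz2 b a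
  have e_wo : cm (ρ b) a = ρ (ρ (cm b a)) := bl b a
  have e_ww : cm (ρ b) (ρ a) = ρ (cm b a) := (cm_map ρ b a).symm
  have e_wv : cm (ρ b) (ρ (ρ a)) = cm b a := by rw [br2 ρ h3 hfp hsq hz2, bl, h3]
  have e_vo : cm (ρ (ρ b)) a = ρ (cm b a) := bl2 ρ h3 hfp hsq hz2 b a
  have e_vw : cm (ρ (ρ b)) (ρ a) = cm b a := by rw [bl2 ρ h3 hfp hsq hz2, br, h3]
  have e_vv : cm (ρ (ρ b)) (ρ (ρ a)) = ρ (ρ (cm b a)) := by rw [← cm_map, ← cm_map]
  cases m <;> cases l <;>
    first
    | exact cm_one_left _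
    | exact cm_one_right _
    | exact rfl
    | exact e_ow
    | exact e_ov
    | exact e_wo
    | exact e_ww
    | exact e_wv
    | exact e_vo
    | exact e_vw
    | exact e_vv

theorem Phi_mul (a b : T) (haa : a * a = 1) (hbb : b * b = 1) (g h : Hs) :
    Phi ρ a b (g * h) = Phi ρ a b g * Phi ρ a b h := by
  unfold Phi
  rw [Hs.mul_l, Hs.mul_m, Hs.mul_n, pw_add ρ h3 hfp a haa, pw_add ρ h3 hfp b hbb,
    Zf_add ρ h3 hfp _ (cm_sq hsq hz2 b a), Zf_add ρ h3 hfp _ (cm_sq hsq hz2 b a)]
  have hz : ∀ k (t : T), t * Zf ρ (cm b a) k = Zf ρ (cm b a) k * t := fun k t =>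
    Subgroup.mem_center_iff.mp (pw_mem_center ρ h3 _ (cm_mem hsq b a) _) t
  have hq : pw ρ g.m b * pw ρ h.l a
      = Zf ρ (cm b a) (g.m * h.l) * pw ρ h.l a * pw ρ g.m b := by
    have e : pw ρ g.m b * pw ρ h.l a
        = cm (pw ρ g.m b) (pw ρ h.l a) * pw ρ h.l a * pw ρ g.m b := by unfold cm; group
    rw [e, pw_cm ρ h3 hfp hsq hz2 a b g.m h.l]
    rfl
  exact heis_aux _ _ _ _ _ _ _ (hz _) (hz _) hq

/-- the comparison homomorphism -/
def PhiHom (a b : T) (haa : a * a = 1) (hbb : b * b = 1) : Hs →* T where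
  toFun := Phi ρ a b
  map_one' := by
    show (1 : T) * 1 * 1 = 1
    simp
  map_mul' := Phi_mul ρ h3 hfp hsq hz2 a b haa hbb

theorem Phi_inj (a b : T) (haa : a * a = 1) (hbb : b * b = 1) (hc1 : cm b a ≠ 1) :
    Function.Injective (PhiHom ρ h3 hfp hsq hz2 a b haa hbb) := by
  rw [injective_iff_map_eq_one]
  intro h hh
  have hh' : pw ρ h.l a * pw ρ h.m b * Zf ρ (cm b a) h.n = 1 := hh
  have hzc : ∀ k, Zf ρ (cm b a) k ∈ Subgroup.center T := fun k =>
    pw_mem_center ρ h3 _ (cm_mem hsq b a) _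
  have hbb' : ∀ m m' : F4, cm (pw ρ m' b) (pw ρ m b) = 1 := by
    intro m m'
    rw [cm_eq_one_iff, ← pw_add ρ h3 hfp b hbb, ← pw_add ρ h3 hfp b hbb, add_comm]
  have haa' : ∀ m m' : F4, cm (pw ρ m' a) (pw ρ m a) = 1 := by
    intro m m'
    rw [cm_eq_one_iff, ← pw_add ρ h3 hfp a haa, ← pw_add ρ h3 hfp a haa, add_comm]
  have hl : h.l = 0 := by
    apply Zf_eq_one ρ h3 (cm b a) hc1
    have e : cm (pw ρ 1 b) (pw ρ h.l a * pw ρ h.m b * Zf ρ (cm b a) h.n) = 1 := by
      rw [hh']; exact cm_one_right _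
    rw [cm_mul_right hsq, cm_mul_right hsq, pw_cm ρ h3 hfp hsq hz2 a b, hbb',
      cm_central_right _ _ (hzc _)] at e
    simp only [mul_one, one_mul] at e
    exact e
  have hm : h.m = 0 := by
    apply Zf_eq_one ρ h3 (cm b a) hc1
    have e : cm (pw ρ h.l a * pw ρ h.m b * Zf ρ (cm b a) h.n) (pw ρ 1 a) = 1 := by
      rw [hh']; exact cm_one_left _
    rw [cm_mul_left hsq, cm_mul_left hsq, pw_cm ρ h3 hfp hsq hz2 a b, haa',
      cm_central_left _ _ (hzc _)] at e
    simp only [mul_one, one_mul] at e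
    exact e
  have hn : h.n = 0 := by
    apply Zf_eq_one ρ h3 (cm b a) hc1
    rw [hl, hm] at hh'
    have e : (1 : T) * 1 * Zf ρ (cm b a) h.n = 1 := hh'
    simpa using e
  exact Hs.ext hl hm hn

theorem exists_iso (hT : Nat.card T = 64) (a b : T) (haa : a * a = 1) (hbb : b * b = 1)
    (hc1 : cm b a ≠ 1) : Nonempty (Hs ≃* T) := by
  have hinj := Phi_inj ρ h3 hfp hsq hz2 a b haa hbb hc1
  have hbij : Function.Bijective (PhiHom ρ h3 hfp hsq hz2 a b haa hbb) := by
    apply Function.Injective.bijective_of_nat_card_le hinj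
    rw [hT, Hs.card_eq]
  exact ⟨MulEquiv.ofBijective _ hbij⟩

end phi

/-- a nonabelian group of order eight is dihedral or quaternion -/
theorem d8_or_q8 {C : Type*} [Group C] [Finite C] (hc : Nat.card C = 8)
    (hnc : ¬ IsMulCommutative C) :
    Nonempty (C ≃* DihedralGroup 4) ∨ Nonempty (C ≃* QuaternionGroup 2) := by
  have : Fact (Nat.Prime 2) := ⟨Nat.prime_two⟩
  obtain ⟨a, ha, hb⟩ := Cfsg.Agent.Helper4.Simple168b.struct8 hc hnc
  have hp : IsPGroup 2 C := IsPGroup.of_card (n := 3) (by rw [hc]; norm_num)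
  have hza : Nat.card (Subgroup.zpowers a) = 4 := by rw [Nat.card_zpowers, ha]
  have hidx : (Subgroup.zpowers a).index = 2 := by
    have := (Subgroup.zpowers a).card_mul_index
    rw [hza, hc] at this
    omega
  obtain ⟨h, hh⟩ : ∃ h : C, h ∉ Subgroup.zpowers a := by
    by_contra hcon
    push Not at hcon
    have htop : Subgroup.zpowers a = ⊤ := (Subgroup.eq_top_iff' _).mpr hcon
    rw [htop, Subgroup.index_top] at hidx
    omega
  obtain ⟨h1, h2⟩ := hb h hh
  have hnorm : h * a * h⁻¹ ∈ Subgroup.zpowers a := by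
    rw [h1]; exact inv_mem (Subgroup.mem_zpowers a)
  have hh2 : h ^ 2 ∈ Subgroup.zpowers a := by
    rw [pow_two]
    rcases h2 with h2 | h2
    · rw [h2]; exact one_mem _
    · rw [h2]; exact mul_mem (Subgroup.mem_zpowers a) (Subgroup.mem_zpowers a)
  have hgen : ∀ g : C, ∃ n ∈ Subgroup.zpowers a, ∃ j : ℕ, g = n * h ^ j := by
    intro g
    by_cases hg : g ∈ Subgroup.zpowers a
    · exact ⟨g, hg, 0, by rw [pow_zero, mul_one]⟩
    · have hinv : h⁻¹ ∉ Subgroup.zpowers a :=
        fun hi => hh (by simpa using Subgroup.inv_mem _ hi)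
      have hmem : g * h⁻¹ ∈ Subgroup.zpowers a := by
        rw [Subgroup.mul_mem_iff_of_index_two hidx]
        exact ⟨fun hx => absurd hx hg, fun hx => absurd hx hinv⟩
      exact ⟨g * h⁻¹, hmem, 1, by rw [pow_one, inv_mul_cancel_right]⟩
  have hkey : ∀ u : ℕ, h * a * h⁻¹ = a ^ u → u % 4 ≠ 1 := by
    intro u hu
    rw [h1] at hu
    have h4 : a ^ (u + 1) = 1 := by rw [pow_succ, ← hu, inv_mul_cancel]
    have hdvd := orderOf_dvd_of_pow_eq_one h4
    rw [ha] at hdvd
    omega
  rcases Cfsg.Agent.Helper27.max_class_of_index_two hp a h hnorm hh hh2 hgen hkey with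
    ⟨m, ⟨e⟩⟩ | ⟨m, ⟨e⟩⟩ | hqd
  · left
    have hm : Nat.card C = 2 * m := by rw [Nat.card_congr e.toEquiv, DihedralGroup.nat_card]
    obtain rfl : m = 4 := by omega
    exact ⟨e⟩
  · right
    have hm0 : m ≠ 0 := by
      rintro rfl
      haveI : Finite (QuaternionGroup 0) := Finite.of_equiv C e.toEquiv
      have hinj : Function.Injective (QuaternionGroup.a : ZMod (2 * 0) → QuaternionGroup 0) :=
        fun _ _ h => QuaternionGroup.a.inj h
      haveI : Infinite (ZMod (2 * 0)) := (inferInstance : Infinite ℤ)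
      haveI : Finite (ZMod (2 * 0)) := Finite.of_injective _ hinj
      exact not_finite (ZMod (2 * 0))
    haveI : NeZero m := ⟨hm0⟩
    have hm : Nat.card C = 4 * m := by
      rw [Nat.card_congr e.toEquiv, Nat.card_eq_fintype_card, QuaternionGroup.card]
    obtain rfl : m = 2 := by omega
    exact ⟨e⟩
  · exfalso
    obtain ⟨n, hn, hcard, -⟩ := hqd
    rw [hc] at hcard
    have : 2 ^ 4 ≤ 2 ^ (n + 1) := Nat.pow_le_pow_right (by norm_num) (by omega)
    omega

end Cfsg.Agent.Helper19.Fpf3
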