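import Mathlib
import Cfsg.Prelude.Def_CaseTheorems
import Cfsg.Agent.Lead.Quat
import Cfsg.Agent.Helper1.NormRank2
import Cfsg.Agent.Helper3.KleinSylow
import Cfsg.Agent.Helper10.NormE4
import Cfsg.Agent.Helper27.MaxClassTwo
import Cfsg.Agent.Helper19.Imprim

namespace Cfsg.Agent.Helper19.Imprim

theorem idx2 {G : Type*} [Group G] (A D : Subgroup G) (hrel : A.relIndex D = 2)
    (d₁ : G) (h₁ : d₁ ∈ D) (d₂ : G) (h₂ : d₂ ∈ D) (n₁ : d₁ ∉ A) (n₂ : d₂ ∉ A) :
    d₁ * d₂ ∈ A := by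
  have hrel' : (A.subgroupOf D).index = 2 := hrel
  have := (Subgroup.mul_mem_iff_of_index_two hrel' (a := (⟨d₁, h₁⟩ : D)) (b := ⟨d₂, h₂⟩)).mpr
    ⟨fun h => absurd (Subgroup.mem_subgroupOf.mp h) n₁,
      fun h => absurd (Subgroup.mem_subgroupOf.mp h) n₂⟩
  exact Subgroup.mem_subgroupOf.mp this

theorem four_of_mod {G : Type*} [Group G] [Finite G] (hG : IsPGroup 2 G)
    (a : G) (hAn : (Subgroup.zpowers a).Normal)
    (D : Subgroup G) (hDn : D.Normal) (hAD : Subgroup.zpowers a ≤ D)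
    (hrel : (Subgroup.zpowers a).relIndex D = 2)
    (x : G) (hxD : x ∈ D) (hxA : x ∉ Subgroup.zpowers a)
    (hx4 : ∀ t ∈ Subgroup.zpowers a, t ^ 4 = 1 → x * t = t * x)
    (hxa : x * a ≠ a * x) :
    ∃ B : Subgroup G, B.Normal ∧ (∀ b ∈ B, b ^ 2 = 1) ∧ Nat.card B = 2 ^ 2 := by
  classical
  have haA : a ∈ Subgroup.zpowers a := Subgroup.mem_zpowers a
  have hAcomm : ∀ s ∈ Subgroup.zpowers a, ∀ t ∈ Subgroup.zpowers a, s * t = t * s := by
    intro s hs t ht
    obtain ⟨i, rfl⟩ := Subgroup.mem_zpowers_iff.mp hs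
    obtain ⟨j, rfl⟩ := Subgroup.mem_zpowers_iff.mp ht
    rw [← zpow_add, ← zpow_add, add_comm]
  have hpowA : ∀ t ∈ Subgroup.zpowers a, ∃ n : ℕ, a ^ n = t := fun t ht =>
    (Submonoid.mem_powers_iff _ _).mp (mem_powers_iff_mem_zpowers.mpr ht)
  have hidx2 : ∀ d₁ ∈ D, ∀ d₂ ∈ D, d₁ ∉ Subgroup.zpowers a → d₂ ∉ Subgroup.zpowers a →
      d₁ * d₂ ∈ Subgroup.zpowers a := fun d₁ h₁ d₂ h₂ n₁ n₂ =>
    idx2 _ D hrel d₁ h₁ d₂ h₂ n₁ n₂
  have hx2 : x * x ∈ Subgroup.zpowers a := hidx2 x hxD x hxD hxA hxA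
  obtain ⟨c, hc_def⟩ : ∃ c : G, c = x * a * x⁻¹ * a⁻¹ := ⟨_, rfl⟩
  have hcA : c ∈ Subgroup.zpowers a := by
    rw [hc_def]
    exact Subgroup.mul_mem _ (hAn.conj_mem a haA x) (Subgroup.inv_mem _ haA)
  have hxax : x * a * x⁻¹ = c * a := by rw [hc_def]; group
  have hc1 : c ≠ 1 := by
    intro h
    apply hxa
    rw [h, one_mul] at hxax
    calc x * a = (x * a * x⁻¹) * x := by group
      _ = a * x := by rw [hxax]
  have hxc : x * c * x⁻¹ = c⁻¹ := by
    have hx2a : x * x * a = a * (x * x) := hAcomm _ hx2 a haA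
    calc x * c * x⁻¹ = (x * x * a) * x⁻¹ * a⁻¹ * x⁻¹ := by rw [hc_def]; group
      _ = (a * (x * x)) * x⁻¹ * a⁻¹ * x⁻¹ := by rw [hx2a]
      _ = c⁻¹ := by rw [hc_def]; group
  have hc2 : c ^ 2 = 1 := by
    obtain ⟨k, hk⟩ := hG c
    have hex : ∃ m, c ^ 2 ^ m = 1 := ⟨k, hk⟩
    have hr := Nat.find_spec hex
    have hmin : ∀ m, m < Nat.find hex → c ^ 2 ^ m ≠ 1 := fun m hm => Nat.find_min hex hm
    rcases Nat.lt_or_ge (Nat.find hex) 2 with hlt | hge
    · have h01 : Nat.find hex = 0 ∨ Nat.find hex = 1 := by omega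
      rcases h01 with h0 | h1
      · rw [h0] at hr; simp at hr; exact absurd hr hc1
      · rw [h1] at hr; simpa using hr
    · exfalso
      obtain ⟨r', hr'⟩ : ∃ r', Nat.find hex = r' + 2 := ⟨Nat.find hex - 2, by omega⟩
      rw [hr'] at hr
      have hs4 : (c ^ 2 ^ r') ^ 4 = 1 := by
        rw [← pow_mul, show 2 ^ r' * 4 = 2 ^ (r' + 2) by ring]; exact hr
      have hsA : c ^ 2 ^ r' ∈ Subgroup.zpowers a := Subgroup.pow_mem _ hcA _
      have hxs : x * c ^ 2 ^ r' = c ^ 2 ^ r' * x := hx4 _ hsA hs4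
      have hxs' : x * c ^ 2 ^ r' * x⁻¹ = (c ^ 2 ^ r')⁻¹ := by
        rw [← conj_pow, hxc, inv_pow]
      have hss : c ^ 2 ^ r' = (c ^ 2 ^ r')⁻¹ := by
        rw [← hxs', hxs, mul_inv_cancel_right]
      have hs2 : (c ^ 2 ^ r') ^ 2 = 1 := by
        have := mul_inv_cancel (c ^ 2 ^ r')
        rw [← hss] at this
        rw [pow_two]; exact this
      apply hmin (r' + 1) (by omega)
      rw [show (2 : ℕ) ^ (r' + 1) = 2 ^ r' * 2 by ring, pow_mul]; exact hs2
  have hcc : c * c = 1 := by rw [← pow_two]; exact hc2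
  have hcinv : c⁻¹ = c := inv_eq_of_mul_eq_one_left hcc
  have hccent : ∀ g : G, g * c = c * g := by
    intro g
    have h1 : g * c * g⁻¹ ∈ Subgroup.zpowers a := hAn.conj_mem c hcA g
    have h2 : (g * c * g⁻¹) ^ 2 = 1 := by rw [conj_pow, hc2, mul_one, mul_inv_cancel]
    have h3 : g * c * g⁻¹ ≠ 1 := by
      intro h
      apply hc1
      have : c = g⁻¹ * (g * c * g⁻¹) * g := by group
      rw [this, h]; group
    have h4 : g * c * g⁻¹ = c :=
      Cfsg.Agent.Helper10.cyclic_involution_unique (Subgroup.zpowers a) inferInstance c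
        (g * c * g⁻¹) hcA h1 hc2 h2 hc1 h3
    calc g * c = (g * c * g⁻¹) * g := by group
      _ = c * g := by rw [h4]
  have hconjA : ∀ t ∈ Subgroup.zpowers a, x * t * x⁻¹ = t ∨ x * t * x⁻¹ = c * t := by
    intro t ht
    obtain ⟨n, rfl⟩ := hpowA t ht
    have h1 : x * a ^ n * x⁻¹ = c ^ n * a ^ n := by
      rw [← conj_pow, hxax, (show Commute c a from (hccent a).symm).mul_pow]
    rw [h1, pow_eq_pow_mod n hc2]
    rcases Nat.mod_two_eq_zero_or_one n with h | h
    · left; rw [h, pow_zero, one_mul]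
    · right; rw [h, pow_one]
  have hoddgen : ∀ n : ℕ, Odd n → ∃ m : ℕ, (a ^ n) ^ m = a := by
    intro n hn
    apply exists_pow_eq_self_of_coprime
    obtain ⟨k, hk⟩ := hG a
    have hdvd : orderOf a ∣ 2 ^ k := orderOf_dvd_of_pow_eq_one hk
    exact Nat.Coprime.coprime_dvd_right hdvd
      (Nat.Coprime.pow_right k (Nat.coprime_two_right.mpr hn))
  obtain ⟨s, hsA, hs2⟩ : ∃ s ∈ Subgroup.zpowers a, s * s = c := by
    obtain ⟨n, hn⟩ := hpowA c hcA
    rcases Nat.even_or_odd n with ⟨n', hn'⟩ | hodd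
    · refine ⟨a ^ n', Subgroup.pow_mem _ haA _, ?_⟩
      rw [← pow_add, ← hn', hn]
    · exfalso
      obtain ⟨m, hm⟩ := hoddgen n hodd
      rw [hn] at hm
      apply hxa
      rw [← hm]
      exact ((show Commute x c from hccent x).pow_right m).eq
  obtain ⟨t₀, ht₀A, ht₀⟩ : ∃ t₀ ∈ Subgroup.zpowers a, x * x = t₀ * t₀ := by
    obtain ⟨j, hj⟩ := hpowA (x * x) hx2
    rcases Nat.even_or_odd j with ⟨j', hj'⟩ | hodd
    · refine ⟨a ^ j', Subgroup.pow_mem _ haA _, ?_⟩
      rw [← pow_add, ← hj', hj]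
    · exfalso
      obtain ⟨m, hm⟩ := hoddgen j hodd
      rw [hj] at hm
      apply hxa
      rw [← hm]
      exact (((Commute.refl x).mul_right (Commute.refl x)).pow_right m).eq
  have ht₀inv : t₀⁻¹ ∈ Subgroup.zpowers a := Subgroup.inv_mem _ ht₀A
  have hy₀A : ∀ r ∈ Subgroup.zpowers a, x * r ∉ Subgroup.zpowers a := by
    intro r hr h
    apply hxA
    have : x = (x * r) * r⁻¹ := by group
    rw [this]; exact Subgroup.mul_mem _ h (Subgroup.inv_mem _ hr)
  have hsq : ∀ r : G, (x * r) * (x * r) = (x * r * x⁻¹) * (x * x) * r := by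
    intro r; group
  have hs4 : s ^ 4 = 1 := by
    rw [show 4 = 2 * 2 by norm_num, pow_mul, pow_two s, hs2, hc2]
  have hxs : x * s = s * x := hx4 s hsA hs4
  obtain ⟨r, hrA, hr⟩ : ∃ r ∈ Subgroup.zpowers a, (x * r) * (x * r) = 1 := by
    rcases hconjA t₀⁻¹ ht₀inv with h | h
    · refine ⟨t₀⁻¹, ht₀inv, ?_⟩
      rw [hsq, h, ht₀]; group
    · refine ⟨t₀⁻¹ * s, Subgroup.mul_mem _ ht₀inv hsA, ?_⟩
      have h1 : x * (t₀⁻¹ * s) * x⁻¹ = c * t₀⁻¹ * s := by
        calc x * (t₀⁻¹ * s) * x⁻¹ = (x * t₀⁻¹ * x⁻¹) * (x * s * x⁻¹) := by group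
          _ = (c * t₀⁻¹) * s := by rw [h, hxs, mul_inv_cancel_right]
      have hst : s * t₀ = t₀ * s := hAcomm s hsA t₀ ht₀A
      rw [hsq, h1, ht₀]
      calc c * t₀⁻¹ * s * (t₀ * t₀) * (t₀⁻¹ * s)
          = c * t₀⁻¹ * (s * t₀) * t₀ * t₀⁻¹ * s := by group
        _ = c * t₀⁻¹ * (t₀ * s) * t₀ * t₀⁻¹ * s := by rw [hst]
        _ = c * (s * s) := by group
        _ = 1 := by rw [hs2, hcc]
  obtain ⟨y, hy_def⟩ : ∃ y : G, y = x * r := ⟨_, rfl⟩
  rw [← hy_def] at hr
  have hyD : y ∈ D := by rw [hy_def]; exact D.mul_mem hxD (hAD hrA)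
  have hyA : y ∉ Subgroup.zpowers a := by rw [hy_def]; exact hy₀A r hrA
  have hyinv : y⁻¹ = y := inv_eq_of_mul_eq_one_left hr
  have hyconj : ∀ t ∈ Subgroup.zpowers a, y * t * y⁻¹ = x * t * x⁻¹ := by
    intro t ht
    have : r * t = t * r := hAcomm r hrA t ht
    calc y * t * y⁻¹ = x * (r * t) * r⁻¹ * x⁻¹ := by rw [hy_def]; group
      _ = x * (t * r) * r⁻¹ * x⁻¹ := by rw [this]
      _ = x * t * x⁻¹ := by group
  have hinvol : ∀ t ∈ Subgroup.zpowers a, (y * t) * (y * t) = 1 → t = 1 ∨ t = c := by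
    intro t ht h
    have h1 : y * t * y⁻¹ = t⁻¹ := by
      have : y * t * y⁻¹ * t = 1 := by
        calc y * t * y⁻¹ * t = (y * t) * (y * t) := by rw [hyinv]; simp only [mul_assoc]
          _ = 1 := h
      exact eq_inv_of_mul_eq_one_left this
    rw [hyconj t ht] at h1
    have htt : t * t = 1 := by
      rcases hconjA t ht with h2 | h2
      · rw [h2] at h1
        have := mul_inv_cancel t
        rw [← h1] at this; exact this
      · exfalso
        rw [h2] at h1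
        have h3 : t * t = c := by
          have : c * (t * t) = 1 := by rw [← mul_assoc, h1, inv_mul_cancel]
          have h4 : t * t = c⁻¹ := eq_inv_of_mul_eq_one_right this
          rw [h4, hcinv]
        have h5 : t ^ 4 = 1 := by
          rw [show 4 = 2 * 2 by norm_num, pow_mul, pow_two t, h3, hc2]
        have h6 : x * t = t * x := hx4 t ht h5
        have h7 : x * t * x⁻¹ = t := by rw [h6, mul_inv_cancel_right]
        rw [h7] at h2
        apply hc1
        have : c * t = 1 * t := by rw [one_mul]; exact h2.symm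
        exact mul_right_cancel this
    by_cases ht1 : t = 1
    · left; exact ht1
    · right
      exact Cfsg.Agent.Helper10.cyclic_involution_unique (Subgroup.zpowers a) inferInstance c t
        hcA ht hc2 (by rw [pow_two]; exact htt) hc1 ht1
  have hcy : c * y = y * c := (hccent y).symm
  refine ⟨Cfsg.Agent.Helper3.kleinOf c y hcc hr hcy, ?_, ?_, ?_⟩
  · constructor
    intro n hn g
    rw [Cfsg.Agent.Helper3.mem_kleinOf] at hn ⊢
    have hgc : g * c * g⁻¹ = c := by rw [hccent g, mul_inv_cancel_right]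
    have hgy : g * y * g⁻¹ = y ∨ g * y * g⁻¹ = c * y := by
      have h1 : g * y * g⁻¹ ∈ D := hDn.conj_mem y hyD g
      have h2 : g * y * g⁻¹ ∉ Subgroup.zpowers a := by
        intro h
        apply hyA
        have : y = g⁻¹ * (g * y * g⁻¹) * g⁻¹⁻¹ := by group
        rw [this]; exact hAn.conj_mem _ h g⁻¹
      have h3 : y * (g * y * g⁻¹) ∈ Subgroup.zpowers a := hidx2 y hyD _ h1 hyA h2
      have e : y * (y * (g * y * g⁻¹)) = g * y * g⁻¹ := by rw [← mul_assoc, hr, one_mul]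
      have h4 : (y * (y * (g * y * g⁻¹))) * (y * (y * (g * y * g⁻¹))) = 1 := by
        rw [e]
        calc g * y * g⁻¹ * (g * y * g⁻¹) = g * (y * y) * g⁻¹ := by group
          _ = 1 := by rw [hr]; group
      rcases hinvol _ h3 h4 with h5 | h5
      · left; rw [← e, h5, mul_one]
      · right; rw [← e, h5, hcy]
    rcases hn with rfl | rfl | rfl | rfl
    · left; group
    · right; left; exact hgc
    · rcases hgy with h | h
      · right; right; left; exact h
      · right; right; right; exact h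
    · have : g * (c * y) * g⁻¹ = (g * c * g⁻¹) * (g * y * g⁻¹) := by group
      rw [this, hgc]
      rcases hgy with h | h
      · right; right; right; rw [h]
      · right; right; left; rw [h, ← mul_assoc, hcc, one_mul]
  · intro b hb
    rw [pow_two]; exact Cfsg.Agent.Helper3.sq_kleinOf c y hcc hr hcy b hb
  · rw [Cfsg.Agent.Helper3.card_kleinOf c y hcc hr hcy hc1
      (fun h => hyA (by rw [h]; exact Subgroup.one_mem _))
      (fun h => hyA (by rw [← h]; exact hcA))]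
    norm_num

theorem abelian_of_cent {G : Type*} [Group G] (a : G) (D : Subgroup G)
    (hrel : (Subgroup.zpowers a).relIndex D = 2)
    (x : G) (hxD : x ∈ D) (hxA : x ∉ Subgroup.zpowers a) (hxa : x * a = a * x) :
    ∀ d₁ ∈ D, ∀ d₂ ∈ D, d₁ * d₂ = d₂ * d₁ := by
  have hcentA : ∀ d ∈ D, ∀ t ∈ Subgroup.zpowers a, d * t = t * d := by
    intro d hd t ht
    have hda : Commute d a := by
      by_cases hdA : d ∈ Subgroup.zpowers a
      · obtain ⟨i, rfl⟩ := Subgroup.mem_zpowers_iff.mp hdA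
        exact (Commute.refl a).zpow_left i
      · have h1 : d * x ∈ Subgroup.zpowers a := idx2 _ D hrel d hd x hxD hdA hxA
        obtain ⟨i, hi⟩ := Subgroup.mem_zpowers_iff.mp h1
        have h2 : Commute (d * x) a := by rw [← hi]; exact (Commute.refl a).zpow_left i
        have h3 : Commute x⁻¹ a := (show Commute x a from hxa).inv_left
        have : d = (d * x) * x⁻¹ := by group
        rw [this]; exact h2.mul_left h3
    obtain ⟨j, rfl⟩ := Subgroup.mem_zpowers_iff.mp ht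
    exact (hda.zpow_right j).eq
  intro d₁ h₁ d₂ h₂
  by_cases hA1 : d₁ ∈ Subgroup.zpowers a
  · exact (hcentA d₂ h₂ d₁ hA1).symm
  · by_cases hA2 : d₂ ∈ Subgroup.zpowers a
    · exact hcentA d₁ h₁ d₂ hA2
    · have hinv : d₁⁻¹ ∉ Subgroup.zpowers a := fun h => hA1 (by simpa using Subgroup.inv_mem _ h)
      have hr : d₁⁻¹ * d₂ ∈ Subgroup.zpowers a :=
        idx2 _ D hrel d₁⁻¹ (D.inv_mem h₁) d₂ h₂ hinv hA2
      have hcomm := hcentA d₁ h₁ _ hr
      calc d₁ * d₂ = d₁ * (d₁ * (d₁⁻¹ * d₂)) := by group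
        _ = d₁ * ((d₁⁻¹ * d₂) * d₁) := by rw [hcomm]
        _ = d₂ * d₁ := by group

theorem two_group_normal_four {G : Type*} [Group G] [Finite G] (hG : IsPGroup 2 G)
    (hnc : ¬ IsCyclic G) (hnq : ∀ n : ℕ, ¬ Nonempty (G ≃* QuaternionGroup n))
    (hnd : ∀ n : ℕ, ¬ Nonempty (G ≃* DihedralGroup n)) (hnsd : ¬ Cfsg.IsQuasiDihedral G) :
    ∃ B : Subgroup G, B.Normal ∧ (∀ x ∈ B, x ^ 2 = 1) ∧ Nat.card B = 2 ^ 2 := by
  classical
  haveI : Fact (Nat.Prime 2) := ⟨Nat.prime_two⟩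
  by_contra hno
  push Not at hno
  obtain ⟨A, -, hAmax⟩ := Finite.exists_le_maximal
    (p := fun M : Subgroup G => M.Normal ∧ ∀ x ∈ M, ∀ y ∈ M, x * y = y * x)
    (a := ⊥) ⟨inferInstance, by
      intro x hx y hy
      rw [Subgroup.mem_bot] at hx hy
      rw [hx, hy]⟩
  obtain ⟨⟨hAn, hAc⟩, hAmax'⟩ := hAmax
  by_cases hAcyc : IsCyclic A
  · obtain ⟨g₀, hg₀⟩ := hAcyc.exists_generator
    have hAz : A = Subgroup.zpowers (g₀ : G) := by
      apply le_antisymm
      · intro t ht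
        obtain ⟨i, hi⟩ := Subgroup.mem_zpowers_iff.mp (hg₀ ⟨t, ht⟩)
        rw [Subgroup.mem_zpowers_iff]
        refine ⟨i, ?_⟩
        have := congrArg Subtype.val hi
        simpa using this
      · rw [Subgroup.zpowers_le]; exact g₀.2
    obtain ⟨a, ha⟩ : ∃ a : G, a = (g₀ : G) := ⟨_, rfl⟩
    rw [← ha] at hAz
    clear ha hg₀
    subst hAz
    have haA : a ∈ Subgroup.zpowers a := Subgroup.mem_zpowers a
    have hAtop : Subgroup.zpowers a ≠ ⊤ := by
      intro h
      apply hnc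
      exact isCyclic_iff_exists_zpowers_eq_top.mpr ⟨a, h⟩
    obtain ⟨h₀, hh₀⟩ : ∃ h₀ : G, h₀ ∉ Subgroup.zpowers a := by
      by_contra hcon
      push Not at hcon
      exact hAtop (eq_top_iff.mpr (fun g _ => hcon g))
    have hanorm : ∀ g : G, g * a * g⁻¹ ∈ Subgroup.zpowers a := fun g => hAn.conj_mem a haA g
    have hpowA : ∀ t ∈ Subgroup.zpowers a, ∃ n : ℕ, a ^ n = t := fun t ht =>
      (Submonoid.mem_powers_iff _ _).mp (mem_powers_iff_mem_zpowers.mpr ht)
    have hkey : ∀ h : G, h ∉ Subgroup.zpowers a → ∀ u : ℕ, h * a * h⁻¹ = a ^ u → u % 4 ≠ 1 := by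
      intro h hh u hu hu4
      let S4 : Set G := {t | t ∈ Subgroup.zpowers a ∧ t ^ 4 = 1}
      have hCn : (Subgroup.centralizer S4).Normal := by
        constructor
        intro n hn g
        rw [Subgroup.mem_centralizer_iff] at hn ⊢
        intro t ht
        have ht' : g⁻¹ * t * g ∈ S4 := by
          refine ⟨?_, ?_⟩
          · have := hAn.conj_mem t ht.1 g⁻¹
            rwa [inv_inv] at this
          · have : g⁻¹ * t * g = g⁻¹ * t * g⁻¹⁻¹ := by rw [inv_inv]
            rw [this, conj_pow, ht.2, mul_one, mul_inv_cancel]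
        have h1 := hn _ ht'
        calc t * (g * n * g⁻¹) = g * ((g⁻¹ * t * g) * n) * g⁻¹ := by group
          _ = g * (n * (g⁻¹ * t * g)) * g⁻¹ := by rw [h1]
          _ = g * n * g⁻¹ * t := by group
      have hAC : Subgroup.zpowers a ≤ Subgroup.centralizer S4 := by
        intro s hs
        rw [Subgroup.mem_centralizer_iff]
        intro t ht
        exact hAc t ht.1 s hs
      have hhC : h ∈ Subgroup.centralizer S4 := by
        rw [Subgroup.mem_centralizer_iff]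
        intro t ht
        obtain ⟨n, hn⟩ := hpowA t ht.1
        have h1 : h * t * h⁻¹ = t := by
          have e1 : h * t * h⁻¹ = t ^ u := by
            rw [← hn, ← conj_pow, hu, ← pow_mul, ← pow_mul, mul_comm]
          rw [e1, pow_eq_pow_mod u ht.2, hu4, pow_one]
        calc t * h = (h * t * h⁻¹) * h := by rw [h1]
          _ = h * t := by group
      have hne : Subgroup.zpowers a ≠ Subgroup.centralizer S4 := by
        intro heq
        apply hh
        rw [heq]; exact hhC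
      obtain ⟨D, hDn, hAD, hDC, hrel⟩ := Cfsg.Agent.Helper1.exists_normal_step hG
        (Subgroup.zpowers a) (Subgroup.centralizer S4) hAn hCn hAC hne
      obtain ⟨x, hxD, hxA⟩ : ∃ x ∈ D, x ∉ Subgroup.zpowers a := by
        by_contra hcon
        push Not at hcon
        have : D ≤ Subgroup.zpowers a := hcon
        rw [← Subgroup.relIndex_eq_one] at this
        rw [this] at hrel
        norm_num at hrel
      have hx4 : ∀ t ∈ Subgroup.zpowers a, t ^ 4 = 1 → x * t = t * x := by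
        intro t ht ht4
        exact (Subgroup.mem_centralizer_iff.mp (hDC hxD) t ⟨ht, ht4⟩).symm
      by_cases hxa : x * a = a * x
      · have hDcomm := abelian_of_cent a D hrel x hxD hxA hxa
        exact hxA (hAmax' ⟨hDn, hDcomm⟩ hAD hxD)
      · obtain ⟨B, hBn, hB2, hBcard⟩ := four_of_mod hG a hAn D hDn hAD hrel x hxD hxA hx4 hxa
        exact hno B hBn hB2 hBcard
    have ha1 : a ≠ 1 := by
      intro h
      refine hkey h₀ hh₀ 1 ?_ rfl
      rw [h]; simp
    have hodd : ∀ (h : G) (u : ℕ), h * a * h⁻¹ = a ^ u → Odd u := by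
      intro h u hu
      by_contra hne
      rw [Nat.not_odd_iff_even] at hne
      obtain ⟨u', hu'⟩ := hne
      obtain ⟨k, hk⟩ := hG a
      have hdvd : orderOf a ∣ 2 ^ k := orderOf_dvd_of_pow_eq_one hk
      obtain ⟨i, hi, hoi⟩ := (Nat.dvd_prime_pow Nat.prime_two).mp hdvd
      have hi0 : i ≠ 0 := by
        intro h0
        rw [h0, pow_zero, orderOf_eq_one_iff] at hoi
        exact ha1 hoi
      obtain ⟨i', rfl⟩ : ∃ i', i = i' + 1 := ⟨i - 1, by omega⟩
      have h1 : (a ^ u) ^ (2 ^ i') = 1 := by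
        have e : u * 2 ^ i' = 2 ^ (i' + 1) * u' := by rw [hu']; ring
        rw [← pow_mul, e, pow_mul, ← hoi, pow_orderOf_eq_one, one_pow]
      rw [← hu, conj_pow] at h1
      have h2 : a ^ (2 ^ i') = 1 := by
        have : a ^ 2 ^ i' = h⁻¹ * (h * a ^ 2 ^ i' * h⁻¹) * h := by group
        rw [this, h1]; group
      have h3 := orderOf_dvd_of_pow_eq_one h2
      rw [hoi] at h3
      have h4 := Nat.le_of_dvd (by positivity) h3
      have h5 : 2 ^ i' < 2 ^ (i' + 1) := Nat.pow_lt_pow_right (by norm_num) (by omega)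
      omega
    have hprod : ∀ h₁ h₂ : G, h₁ ∉ Subgroup.zpowers a → h₂ ∉ Subgroup.zpowers a →
        h₁ * h₂ ∈ Subgroup.zpowers a := by
      intro h₁ h₂ hh₁ hh₂
      by_contra hcon
      obtain ⟨u₁, hu₁⟩ := hpowA _ (hanorm h₁)
      obtain ⟨u₂, hu₂⟩ := hpowA _ (hanorm h₂)
      have h12 : (h₁ * h₂) * a * (h₁ * h₂)⁻¹ = a ^ (u₁ * u₂) := by
        calc (h₁ * h₂) * a * (h₁ * h₂)⁻¹ = h₁ * (h₂ * a * h₂⁻¹) * h₁⁻¹ := by group
          _ = h₁ * a ^ u₂ * h₁⁻¹ := by rw [← hu₂]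
          _ = (h₁ * a * h₁⁻¹) ^ u₂ := by rw [conj_pow]
          _ = a ^ (u₁ * u₂) := by rw [← hu₁, ← pow_mul]
      have k1 := hkey h₁ hh₁ u₁ hu₁.symm
      have k2 := hkey h₂ hh₂ u₂ hu₂.symm
      have k3 := hkey _ hcon _ h12
      have o1 := hodd h₁ u₁ hu₁.symm
      have o2 := hodd h₂ u₂ hu₂.symm
      have m1 : u₁ % 4 = 3 := by
        obtain ⟨j, hj⟩ := o1; omega
      have m2 : u₂ % 4 = 3 := by
        obtain ⟨j, hj⟩ := o2; omega
      apply k3
      rw [Nat.mul_mod, m1, m2]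
    have hh2 : h₀ ^ 2 ∈ Subgroup.zpowers a := by rw [pow_two]; exact hprod h₀ h₀ hh₀ hh₀
    have hgen : ∀ g : G, ∃ n ∈ Subgroup.zpowers a, ∃ j : ℕ, g = n * h₀ ^ j := by
      intro g
      by_cases hg : g ∈ Subgroup.zpowers a
      · exact ⟨g, hg, 0, by rw [pow_zero, mul_one]⟩
      · have hinv : h₀⁻¹ ∉ Subgroup.zpowers a :=
          fun h => hh₀ (by simpa using Subgroup.inv_mem _ h)
        exact ⟨g * h₀⁻¹, hprod g h₀⁻¹ hg hinv, 1, by rw [pow_one, inv_mul_cancel_right]⟩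
    rcases Cfsg.Agent.Helper27.max_class_of_index_two hG a h₀ (hanorm h₀) hh₀ hh2 hgen
      (hkey h₀ hh₀) with ⟨m, hm⟩ | ⟨m, hm⟩ | hqd
    · exact hnd m hm
    · exact hnq m hm
    · exact hnsd hqd
  · let inst : CommGroup A := { (inferInstance : Group A) with
      mul_comm := fun x y => Subtype.ext (hAc x x.2 y y.2) }
    obtain ⟨p', hp', b₁, b₂, hb₁, hb₂, hb₂1, hb⟩ :=
      @Cfsg.Agent.Helper10.exists_rank_two_of_not_cyclic A inst _ hAcyc
    have hβ₁ : (b₁ : G) ^ p' = 1 := congrArg Subtype.val hb₁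
    have hβ₂ : (b₂ : G) ^ p' = 1 := congrArg Subtype.val hb₂
    have hβ₂1 : (b₂ : G) ≠ 1 := fun h => hb₂1 (Subtype.ext h)
    have hβ : ∀ i : ℕ, (b₁ : G) * (b₂ : G) ^ i ≠ 1 := fun i h => hb i (Subtype.ext h)
    haveI : Fact p'.Prime := ⟨hp'⟩
    have hp2 : p' = 2 := by
      have ho : orderOf (b₂ : G) = p' := orderOf_eq_prime hβ₂ hβ₂1
      obtain ⟨k, hk⟩ := hG (b₂ : G)
      have hdvd : p' ∣ 2 ^ k := by rw [← ho]; exact orderOf_dvd_of_pow_eq_one hk
      exact (Nat.prime_dvd_prime_iff_eq hp' Nat.prime_two).mp (hp'.dvd_of_dvd_pow hdvd)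
    subst hp2
    let N : Subgroup G :=
      { carrier := {t | t ∈ A ∧ t ^ 2 = 1}
        mul_mem' := by
          rintro s t ⟨hs, hs2⟩ ⟨ht, ht2⟩
          exact ⟨A.mul_mem hs ht, by
            rw [(show Commute s t from hAc s hs t ht).mul_pow, hs2, ht2, one_mul]⟩
        one_mem' := ⟨A.one_mem, one_pow 2⟩
        inv_mem' := by
          rintro t ⟨ht, ht2⟩
          exact ⟨A.inv_mem ht, by rw [inv_pow, ht2, inv_one]⟩ }
    have hNn : N.Normal := by
      constructor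
      rintro t ⟨ht, ht2⟩ g
      exact ⟨hAn.conj_mem t ht g, by rw [conj_pow, ht2, mul_one, mul_inv_cancel]⟩
    have hNcard : 2 < Nat.card N := by
      by_contra hcon
      push Not at hcon
      have hb₂N : (b₂ : G) ∈ N := ⟨b₂.2, hβ₂⟩
      have hb₁N : (b₁ : G) ∈ N := ⟨b₁.2, hβ₁⟩
      have hK : Subgroup.zpowers (b₂ : G) = N := by
        apply Subgroup.eq_of_le_of_card_ge
        · rw [Subgroup.zpowers_le]; exact hb₂N
        · rw [Nat.card_zpowers, orderOf_eq_prime hβ₂ hβ₂1]; exact hcon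
      rw [← hK] at hb₁N
      obtain ⟨i, hi⟩ := (Submonoid.mem_powers_iff _ _).mp (mem_powers_iff_mem_zpowers.mpr hb₁N)
      apply hβ i
      rw [← hi, ← pow_add, ← two_mul, pow_mul, hβ₂, one_pow]
    obtain ⟨B, hBn, hBN, hBcard⟩ := Cfsg.Agent.Helper10.normal_sq_of_normal_elem hG N hNn hNcard
    exact hno B hBn (fun x hx => (hBN hx).2) hBcard

theorem exists_pair {G : Type*} [Group G] [Finite G] (p : ℕ) [Fact p.Prime] (hG : IsPGroup p G)
    (B : Subgroup G) (hBn : B.Normal) (hBp : ∀ x ∈ B, x ^ p = 1) (hBcard : Nat.card B = p ^ 2) :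
    ∃ c e : G, (∀ g : G, g * c = c * g) ∧ c ≠ 1 ∧ c ^ p = 1 ∧ e ^ p = 1 ∧
      (∀ k : ℕ, e * c ^ k ≠ 1) ∧ ∀ g : G, ∃ m : ℕ, g * e * g⁻¹ = e * c ^ m := by
  classical
  have hp : p.Prime := Fact.out
  have hBne : B ≠ ⊥ := by
    intro h
    rw [h, Subgroup.card_bot] at hBcard
    have : 1 < p ^ 2 := Nat.one_lt_pow (by norm_num) hp.one_lt
    omega
  haveI := hBn
  obtain ⟨c, hcB, hc1, hcZ⟩ := Cfsg.Agent.Lead.normal_inf_center_ne_bot' p hG B hBne
  have hcc : ∀ g : G, g * c = c * g := fun g => Subgroup.mem_center_iff.mp hcZ g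
  have hcp : c ^ p = 1 := hBp c hcB
  haveI hKn : (Subgroup.zpowers c).Normal := by
    constructor
    intro n hn g
    have : g * n * g⁻¹ = n := by
      obtain ⟨i, rfl⟩ := Subgroup.mem_zpowers_iff.mp hn
      have hcomm : Commute g (c ^ i) := (show Commute g c from hcc g).zpow_right i
      rw [hcomm.eq, mul_inv_cancel_right]
    rw [this]; exact hn
  have hKcard : Nat.card (Subgroup.zpowers c) = p := by
    rw [Nat.card_zpowers, orderOf_eq_prime hcp hc1]
  let π := QuotientGroup.mk' (Subgroup.zpowers c)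
  have hQ : IsPGroup p (G ⧸ Subgroup.zpowers c) := hG.to_quotient _
  haveI hBmap : (B.map π).Normal := hBn.map π (QuotientGroup.mk'_surjective _)
  have hBmne : B.map π ≠ ⊥ := by
    intro h
    rw [Subgroup.map_eq_bot_iff, QuotientGroup.ker_mk'] at h
    have h1 := Subgroup.card_le_of_le h
    rw [hBcard, hKcard] at h1
    have : p < p ^ 2 := by nlinarith [hp.two_le]
    omega
  obtain ⟨b', hb'B, hb'1, hb'Z⟩ :=
    Cfsg.Agent.Lead.normal_inf_center_ne_bot' p hQ (B.map π) hBmne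
  obtain ⟨e, heB, rfl⟩ := Subgroup.mem_map.mp hb'B
  have heK : e ∉ Subgroup.zpowers c := by
    intro h
    apply hb'1
    exact (QuotientGroup.eq_one_iff e).mpr h
  refine ⟨c, e, hcc, hc1, hcp, hBp e heB, ?_, ?_⟩
  · intro k h
    apply heK
    have : e = (c ^ k)⁻¹ := eq_inv_of_mul_eq_one_left h
    rw [this]; exact Subgroup.inv_mem _ (Subgroup.pow_mem _ (Subgroup.mem_zpowers c) k)
  · intro g
    have hmem : e⁻¹ * (g * e * g⁻¹) ∈ Subgroup.zpowers c := by
      rw [← QuotientGroup.eq_one_iff]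
      have hcomm := Subgroup.mem_center_iff.mp hb'Z (π g)
      show π (e⁻¹ * (g * e * g⁻¹)) = 1
      rw [map_mul, map_mul, map_mul, map_inv, map_inv, hcomm, mul_inv_cancel_right,
        inv_mul_cancel]
    obtain ⟨m, hm⟩ := (Submonoid.mem_powers_iff _ _).mp (mem_powers_iff_mem_zpowers.mpr hmem)
    refine ⟨m, ?_⟩
    rw [hm]; group

theorem imprim (q : ℕ) [Fact q.Prime] {V : Type*} [AddCommGroup V] [Module (ZMod q) V]
    [Finite V] [Nontrivial V]
    {G : Type*} [Group G] [Finite G] (p : ℕ) [Fact p.Prime] (hG : IsPGroup p G)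
    (ρ : G →* (V ≃ₗ[ZMod q] V)) (hρ : Function.Injective ρ)
    (hirr : ∀ W : Submodule (ZMod q) V, (∀ g : G, ∀ w ∈ W, ρ g w ∈ W) → W = ⊥ ∨ W = ⊤)
    (hnc : ¬ IsCyclic G) (hnq : ∀ n : ℕ, ¬ Nonempty (G ≃* QuaternionGroup n))
    (hnd : ∀ n : ℕ, ¬ Nonempty (G ≃* DihedralGroup n)) (hnsd : ¬ Cfsg.IsQuasiDihedral G) :
    ∃ (H : Subgroup G) (W : Fin p → Submodule (ZMod q) V), H.index = p ∧
      iSup W = ⊤ ∧ iSupIndep W ∧
      (∀ h ∈ H, ∀ i, ∀ w ∈ W i, ρ h w ∈ W i) ∧
      (∀ i, ∃ h ∈ H, h ≠ 1 ∧ ∀ w ∈ W i, ρ h w = w) ∧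
      ∀ g : G, g ∉ H → ∃ σ : Equiv.Perm (Fin p), orderOf σ = p ∧
        ∀ i, (W i).map (ρ g : V →ₗ[ZMod q] V) = W (σ i) := by
  classical
  have hp : p.Prime := Fact.out
  have hpq : p ≠ q := by
    intro hpq
    subst hpq
    apply hnc
    letI : MulAction G V :=
      { smul := fun g v => ρ g v
        one_smul := fun v => by show ρ 1 v = v; rw [map_one]; rfl
        mul_smul := fun g h v => by show ρ (g * h) v = ρ g (ρ h v); rw [map_mul]; rfl }
    have hsmul : ∀ (g : G) (v : V), g • v = ρ g v := fun g v => rfl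
    have hmod := hG.card_modEq_card_fixedPoints V
    obtain ⟨v₀, hv₀⟩ := exists_ne (0 : V)
    have hpv : ∀ v : V, p • v = 0 := by
      intro v
      rw [← Nat.cast_smul_eq_nsmul (ZMod p) p v, ZMod.natCast_self, zero_smul]
    have hdvd : p ∣ Nat.card V := by
      have h1 : addOrderOf v₀ = p := addOrderOf_eq_prime (hpv v₀) hv₀
      rw [← h1]; exact addOrderOf_dvd_natCard v₀
    have hdvd2 : p ∣ Nat.card (MulAction.fixedPoints G V) :=
      (Nat.modEq_zero_iff_dvd.mp ((hmod.symm).trans (Nat.modEq_zero_iff_dvd.mpr hdvd)))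
    have h0mem : (0 : V) ∈ MulAction.fixedPoints G V := by
      intro g; rw [hsmul, map_zero]
    have hpos : 0 < Nat.card (MulAction.fixedPoints G V) :=
      Nat.card_pos_iff.mpr ⟨⟨⟨0, h0mem⟩⟩, inferInstance⟩
    have hlt : 1 < Nat.card (MulAction.fixedPoints G V) := by
      have := Nat.le_of_dvd hpos hdvd2
      have := hp.two_le
      omega
    haveI : Nontrivial (MulAction.fixedPoints G V) := Finite.one_lt_card_iff_nontrivial.mp hlt
    obtain ⟨⟨v, hv⟩, hvne⟩ := exists_ne (⟨0, h0mem⟩ : MulAction.fixedPoints G V)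
    have hv0 : v ≠ 0 := fun h => hvne (Subtype.ext h)
    let W₀ : Submodule (ZMod p) V :=
      { carrier := {w | ∀ g : G, ρ g w = w}
        add_mem' := by
          intro x y hx hy g
          rw [map_add, hx g, hy g]
        zero_mem' := fun g => map_zero _
        smul_mem' := by
          intro r x hx g
          rw [map_smul, hx g] }
    have hinv : ∀ g : G, ∀ w ∈ W₀, ρ g w ∈ W₀ := by
      intro g w hw
      have : ρ g w = w := hw g
      rw [this]; exact hw
    have hvW : v ∈ W₀ := fun g => hv g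
    rcases hirr W₀ hinv with h | h
    · rw [h] at hvW
      exact absurd ((Submodule.mem_bot _).mp hvW) hv0
    · have htriv : ∀ g : G, g = 1 := by
        intro g
        apply hρ
        rw [map_one]
        ext w
        have : w ∈ W₀ := by rw [h]; trivial
        exact this g
      haveI : Subsingleton G := ⟨fun x y => by rw [htriv x, htriv y]⟩
      exact isCyclic_of_subsingleton
  obtain ⟨B, hBn, hBp, hBcard⟩ : ∃ B : Subgroup G, B.Normal ∧ (∀ x ∈ B, x ^ p = 1) ∧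
      Nat.card B = p ^ 2 := by
    by_cases hp2 : p = 2
    · subst hp2
      exact two_group_normal_four hG hnc hnq hnd hnsd
    · obtain ⟨B, hBn, -, hBp, hBcard⟩ :=
        Cfsg.Agent.Helper1.exists_normal_elem_abelian_sq hp2 hG hnc
      exact ⟨B, hBn, hBp, hBcard⟩
  obtain ⟨c, e, hcc, hc1, hcp, hep, hec, hconj⟩ := exists_pair p hG B hBn hBp hBcard
  exact imprim_main q p hG ρ hρ hirr hpq c e hcc hc1 hcp hep hec hconj

end Cfsg.Agent.Helper19.Imprim
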