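import Mathlib
import Cfsg.Agent.Helper19.Imprim2
import Cfsg.Agent.Helper19.FrattRank

/-!
Frattini index of a 2-group acting faithfully and irreducibly on an elementary
abelian group of odd order: `|P : Φ(P)| ≤ |V| - 1`.
-/

set_option autoImplicit false

namespace Cfsg.Agent.Helper19.FrattRank

universe u

open scoped Pointwise

section lin

variable {q : ℕ} [hq : Fact q.Prime] {V : Type u} [AddCommGroup V] [Module (ZMod q) V] [Finite V]
  {G : Type u} [Group G] [Finite G] (ρ : G →* (V ≃ₗ[ZMod q] V))

/-- if `|V| = q` then `G` embeds in the multiplicative monoid of `ZMod q` -/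
theorem dim_one (hV : Nat.card V = q) (hρ : Function.Injective ρ) :
    ∃ f : G →* ZMod q, Function.Injective f := by
  classical
  haveI : NeZero q := ⟨hq.out.ne_zero⟩
  have hq1 : 1 < q := hq.out.one_lt
  obtain ⟨v0, hv0⟩ : ∃ v0 : V, v0 ≠ 0 := by
    by_contra h
    push Not at h
    have : Nat.card V ≤ 1 := by
      haveI : Subsingleton V := ⟨fun a b => by rw [h a, h b]⟩
      exact Finite.card_le_one_iff_subsingleton.mpr this
    omega
  have hinj : Function.Injective (fun k : ZMod q => k • v0) := by
    intro a b hab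
    have h : (a - b) • v0 = 0 := by rw [sub_smul]; exact sub_eq_zero.mpr hab
    rcases smul_eq_zero.mp h with h | h
    · exact sub_eq_zero.mp h
    · exact absurd h hv0
  have hbij : Function.Bijective (fun k : ZMod q => k • v0) := by
    have hc : Nat.card (ZMod q) = Nat.card V := by rw [Nat.card_zmod, hV]
    exact (Nat.bijective_iff_injective_and_card _).mpr ⟨hinj, hc⟩
  have hsurj := hbij.2
  choose k hk using fun g : G => hsurj (ρ g v0)
  have hk' : ∀ g : G, k g • v0 = ρ g v0 := hk
  refine ⟨⟨⟨k, ?_⟩, ?_⟩, ?_⟩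
  · apply hinj
    show k 1 • v0 = (1 : ZMod q) • v0
    rw [hk', map_one, one_smul]; rfl
  · intro a b
    apply hinj
    show k (a * b) • v0 = (k a * k b) • v0
    rw [hk', map_mul, LinearEquiv.mul_apply, ← hk' b, map_smul, ← hk' a, smul_smul, mul_comm]
  · intro a b hab
    apply hρ
    have hab' : k a = k b := hab
    apply LinearEquiv.ext
    intro v
    obtain ⟨c, rfl⟩ := hsurj v
    show ρ a (c • v0) = ρ b (c • v0)
    rw [map_smul, map_smul, ← hk' a, ← hk' b, hab']

theorem cyclic_of_dim_one (hV : Nat.card V = q) (hρ : Function.Injective ρ) : IsCyclic G := by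
  obtain ⟨f, hf⟩ := dim_one ρ hV hρ
  exact isCyclic_of_subgroup_isDomain f hf

theorem card_le_of_dim_one (hV : Nat.card V = q) (hρ : Function.Injective ρ) :
    Nat.card G ≤ q - 1 := by
  haveI : NeZero q := ⟨hq.out.ne_zero⟩
  obtain ⟨f, hf⟩ := dim_one ρ hV hρ
  have hinj : Function.Injective f.toHomUnits := by
    intro a b hab
    apply hf
    have := congrArg (fun u : (ZMod q)ˣ => (u : ZMod q)) hab
    simpa using this
  have := Nat.card_le_card_of_injective _ hinj
  rw [Nat.card_eq_fintype_card (α := (ZMod q)ˣ), ZMod.card_units] at this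
  exact this

/-- restriction of the representation to an invariant submodule -/
def restr (M : Subgroup G) (W : Submodule (ZMod q) V) (hW : ∀ h ∈ M, ∀ w ∈ W, ρ h w ∈ W) :
    M →* (W ≃ₗ[ZMod q] W) where
  toFun m :=
    { toFun := fun w => ⟨ρ m (w : V), hW m m.2 w w.2⟩
      invFun := fun w => ⟨ρ (m : G)⁻¹ (w : V), hW _ (M.inv_mem m.2) w w.2⟩
      map_add' := fun a b => Subtype.ext (map_add (ρ m) (a : V) (b : V))
      map_smul' := fun c a => Subtype.ext (map_smul (ρ m) c (a : V))
      left_inv := fun w => Subtype.ext (by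
        show ρ (m : G)⁻¹ (ρ m (w : V)) = w
        rw [← LinearEquiv.mul_apply, ← map_mul, inv_mul_cancel, map_one]; rfl)
      right_inv := fun w => Subtype.ext (by
        show ρ m (ρ (m : G)⁻¹ (w : V)) = w
        rw [← LinearEquiv.mul_apply, ← map_mul, mul_inv_cancel, map_one]; rfl) }
  map_one' := by
    apply LinearEquiv.ext; intro w; apply Subtype.ext
    show ρ ((1 : M) : G) (w : V) = w
    rw [Subgroup.coe_one, map_one]; rfl
  map_mul' a b := by
    apply LinearEquiv.ext; intro w; apply Subtype.ext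
    show ρ ((a * b : M) : G) (w : V) = ρ a (ρ b (w : V))
    rw [Subgroup.coe_mul, map_mul]; rfl

theorem restr_apply (M : Subgroup G) (W : Submodule (ZMod q) V)
    (hW : ∀ h ∈ M, ∀ w ∈ W, ρ h w ∈ W) (m : M) (w : W) :
    ((restr ρ M W hW m w : W) : V) = ρ m w := rfl

theorem irr_restr
    (hirr : ∀ W : Submodule (ZMod q) V, (∀ g : G, ∀ w ∈ W, ρ g w ∈ W) → W = ⊥ ∨ W = ⊤)
    (M : Subgroup G) (hM : M.index = 2) (W W' : Submodule (ZMod q) V)
    (hdisj : Disjoint W W')
    (hW : ∀ h ∈ M, ∀ w ∈ W, ρ h w ∈ W)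
    (g : G) (hg : g ∉ M) (hgW : W.map (ρ g : V →ₗ[ZMod q] V) = W')
    (U : Submodule (ZMod q) W) (hU : ∀ m : M, ∀ u ∈ U, restr ρ M W hW m u ∈ U) :
    U = ⊥ ∨ U = ⊤ := by
  haveI : M.Normal := Subgroup.normal_of_index_eq_two hM
  have hU'W : U.map W.subtype ≤ W := by
    rintro _ ⟨u, -, rfl⟩; exact u.2
  -- invariance under M
  have hMU : ∀ m ∈ M, ∀ w ∈ U.map W.subtype, ρ m w ∈ U.map W.subtype := by
    rintro m hm _ ⟨u, hu, rfl⟩
    exact ⟨restr ρ M W hW ⟨m, hm⟩ u, hU ⟨m, hm⟩ u hu, rfl⟩
  have hMgU : ∀ m ∈ M, ∀ w ∈ (U.map W.subtype).map (ρ g : V →ₗ[ZMod q] V),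
      ρ m w ∈ (U.map W.subtype).map (ρ g : V →ₗ[ZMod q] V) := by
    rintro m hm _ ⟨w0, hw0, rfl⟩
    refine ⟨ρ (g⁻¹ * m * g) w0, hMU _ ?_ w0 hw0, ?_⟩
    · have := ‹M.Normal›.conj_mem m hm g⁻¹
      rwa [inv_inv] at this
    · show ρ g (ρ (g⁻¹ * m * g) w0) = ρ m (ρ g w0)
      rw [← LinearEquiv.mul_apply, ← LinearEquiv.mul_apply, ← map_mul, ← map_mul]
      congr 2
      group
  have hgU : ∀ w ∈ U.map W.subtype, ρ g w ∈ (U.map W.subtype).map (ρ g : V →ₗ[ZMod q] V) :=
    fun w hw => ⟨w, hw, rfl⟩
  have hggU : ∀ w ∈ (U.map W.subtype).map (ρ g : V →ₗ[ZMod q] V), ρ g w ∈ U.map W.subtype := by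
    rintro _ ⟨w0, hw0, rfl⟩
    have hg2 : g * g ∈ M := by
      have := Subgroup.sq_mem_of_index_two hM g
      rwa [pow_two] at this
    have := hMU (g * g) hg2 w0 hw0
    rw [map_mul, LinearEquiv.mul_apply] at this
    exact this
  have hXinv : ∀ x : G, ∀ w ∈ U.map W.subtype ⊔ (U.map W.subtype).map (ρ g : V →ₗ[ZMod q] V),
      ρ x w ∈ U.map W.subtype ⊔ (U.map W.subtype).map (ρ g : V →ₗ[ZMod q] V) := by
    intro x w hw
    obtain ⟨a, ha, b, hb, rfl⟩ := Submodule.mem_sup.mp hw
    by_cases hx : x ∈ M
    · rw [map_add]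
      exact Submodule.add_mem _ (Submodule.mem_sup_left (hMU x hx a ha))
        (Submodule.mem_sup_right (hMgU x hx b hb))
    · have hgx : g⁻¹ * x ∈ M := by
        have hginv : g⁻¹ ∉ M := fun h => hg (by simpa using M.inv_mem h)
        exact (Subgroup.mul_mem_iff_of_index_two hM).mpr
          ⟨fun h => absurd h hginv, fun h => absurd h hx⟩
      have hx' : x = g * (g⁻¹ * x) := by group
      rw [hx', map_mul, LinearEquiv.mul_apply, map_add, map_add]
      rw [add_comm]
      exact Submodule.add_mem _
        (Submodule.mem_sup_left (hggU _ (hMgU _ hgx b hb)))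
        (Submodule.mem_sup_right (hgU _ (hMU _ hgx a ha)))
  rcases hirr _ hXinv with hX | hX
  · left
    rw [eq_bot_iff]
    intro u hu
    have h1 : (u : V) ∈ U.map W.subtype ⊔ (U.map W.subtype).map (ρ g : V →ₗ[ZMod q] V) :=
      Submodule.mem_sup_left ⟨u, hu, rfl⟩
    rw [hX, Submodule.mem_bot] at h1
    rw [Submodule.mem_bot]
    exact Subtype.ext h1
  · right
    rw [eq_top_iff]
    intro w _
    have h1 : (w : V) ∈ U.map W.subtype ⊔ (U.map W.subtype).map (ρ g : V →ₗ[ZMod q] V) := by
      rw [hX]; trivial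
    obtain ⟨a, ha, b, hb, hab⟩ := Submodule.mem_sup.mp h1
    have hbW' : b ∈ W' := by
      rw [← hgW]
      obtain ⟨w0, hw0, rfl⟩ := hb
      exact ⟨w0, hU'W hw0, rfl⟩
    have hbW : b ∈ W := by
      have : b = (w : V) - a := by rw [← hab]; abel
      rw [this]
      exact W.sub_mem w.2 (hU'W ha)
    have hb0 : b = 0 := by
      have := hdisj.le_bot (show b ∈ W ⊓ W' from ⟨hbW, hbW'⟩)
      exact (Submodule.mem_bot _).mp this
    rw [hb0, add_zero] at hab
    obtain ⟨u, hu, rfl⟩ := ha
    have : u = w := Subtype.ext hab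
    rw [← this]; exact hu

theorem ind2_step (hρ : Function.Injective ρ) (M : Subgroup G) (hM : M.index = 2)
    (W W' : Submodule (ZMod q) V) (hsup : W ⊔ W' = ⊤)
    (hW : ∀ h ∈ M, ∀ w ∈ W, ρ h w ∈ W) (hW' : ∀ h ∈ M, ∀ w ∈ W', ρ h w ∈ W') (H : Subgroup G) :
    ∃ (X : Subgroup (restr ρ M W hW).range) (X' : Subgroup (restr ρ M W' hW').range),
      ind2 H ≤ 2 * (ind2 X * ind2 X') := by
  haveI : M.Normal := Subgroup.normal_of_index_eq_two hM
  have hDi : (M.subgroupOf H).index ≤ 2 := by
    have h1 : M.relIndex H ∣ M.index := Subgroup.relIndex_dvd_index_of_normal M H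
    rw [hM] at h1
    exact Nat.le_of_dvd (by norm_num) h1
  have h1 := ind2_le_of_subgroup (M.subgroupOf H)
  let ι : (M.subgroupOf H) →* M :=
    (H.subtype.comp (M.subgroupOf H).subtype).codRestrict M (fun y => y.2)
  have hι : Function.Injective ι := by
    intro a b hab
    have : ((a : H) : G) = ((b : H) : G) := congrArg (fun z : M => (z : G)) hab
    exact Subtype.ext (Subtype.ext this)
  let f : (M.subgroupOf H) →* (W ≃ₗ[ZMod q] W) := (restr ρ M W hW).comp ι
  have h2 := ind2_le_range_ker f
  have hfr : f.range ≤ (restr ρ M W hW).range := by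
    rintro _ ⟨x, rfl⟩; exact ⟨ι x, rfl⟩
  let f' : f.ker →* (W' ≃ₗ[ZMod q] W') := (restr ρ M W' hW').comp (ι.comp f.ker.subtype)
  have hf' : Function.Injective f' := by
    rw [injective_iff_map_eq_one]
    intro a ha
    have ha0 : restr ρ M W hW (ι (a : M.subgroupOf H)) = 1 := a.2
    have ha1 : restr ρ M W' hW' (ι (a : M.subgroupOf H)) = 1 := ha
    have hone : ρ ((ι (a : M.subgroupOf H) : M) : G) = 1 := by
      apply LinearEquiv.ext
      intro v
      have hv : v ∈ W ⊔ W' := by rw [hsup]; trivial
      obtain ⟨x, hx, y, hy, rfl⟩ := Submodule.mem_sup.mp hv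
      have e0 : ρ ((ι (a : M.subgroupOf H) : M) : G) x = x := by
        have := congrArg (fun e : W ≃ₗ[ZMod q] W => ((e ⟨x, hx⟩ : W) : V)) ha0
        exact this
      have e1 : ρ ((ι (a : M.subgroupOf H) : M) : G) y = y := by
        have := congrArg (fun e : W' ≃ₗ[ZMod q] W' => ((e ⟨y, hy⟩ : W') : V)) ha1
        exact this
      rw [map_add, e0, e1]; rfl
    have h3 : ((ι (a : M.subgroupOf H) : M) : G) = 1 := hρ (hone.trans (map_one ρ).symm)
    have h4 : ι (a : M.subgroupOf H) = 1 := Subtype.ext h3
    have h5 : (a : M.subgroupOf H) = 1 := hι (h4.trans (map_one ι).symm)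
    exact Subtype.ext h5
  have hfr' : f'.range ≤ (restr ρ M W' hW').range := by
    rintro _ ⟨x, rfl⟩; exact ⟨ι (x : M.subgroupOf H), rfl⟩
  refine ⟨f.range.subgroupOf _, f'.range.subgroupOf _, ?_⟩
  have e1 : ind2 (f.range.subgroupOf (restr ρ M W hW).range) = ind2 f.range :=
    ind2_congr (Subgroup.subgroupOfEquivOfLe hfr)
  have e2 : ind2 (f'.range.subgroupOf (restr ρ M W' hW').range) = ind2 f.ker := by
    rw [ind2_congr (Subgroup.subgroupOfEquivOfLe hfr')]
    exact (ind2_congr (MonoidHom.ofInjective hf')).symm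
  rw [e1, e2]
  calc ind2 H ≤ (M.subgroupOf H).index * ind2 (M.subgroupOf H) := h1
    _ ≤ 2 * (ind2 f.range * ind2 f.ker) := Nat.mul_le_mul hDi h2

end lin

theorem main_ind (q : ℕ) [hq : Fact q.Prime] (hq2 : q ≠ 2) : ∀ n : ℕ,
    ∀ (V : Type u) [AddCommGroup V] [Module (ZMod q) V] [Finite V] [Nontrivial V]
      (G : Type u) [Group G] [Finite G], IsPGroup 2 G → Nat.card G ≤ n →
      ∀ ρ : G →* (V ≃ₗ[ZMod q] V), Function.Injective ρ →
      (∀ W : Submodule (ZMod q) V, (∀ g : G, ∀ w ∈ W, ρ g w ∈ W) → W = ⊥ ∨ W = ⊤) →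
      Nat.card V = 3 ∨ ∀ H : Subgroup G, (2 * ind2 H) ^ 19 ≤ Nat.card V ^ 18 := by
  intro n
  induction n using Nat.strong_induction_on with
  | _ n ih =>
  intro V _ _ _ _ G _ _ hG hn ρ hρ hirr
  classical
  haveI : Fact (Nat.Prime 2) := ⟨Nat.prime_two⟩
  haveI : NeZero q := ⟨hq.out.ne_zero⟩
  have hq3 : 3 ≤ q := by have := hq.out.two_le; omega
  obtain ⟨d, hd⟩ : ∃ d : ℕ, Nat.card V = q ^ d := by
    haveI : Fintype V := Fintype.ofFinite V
    refine ⟨Module.finrank (ZMod q) V, ?_⟩
    rw [Nat.card_eq_fintype_card, Module.card_eq_pow_finrank (K := ZMod q) (V := V), ZMod.card]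
  have hd1 : 1 ≤ d := by
    by_contra h
    have h0 : d = 0 := by omega
    rw [h0, pow_zero] at hd
    have := Finite.one_lt_card (α := V)
    omega
  by_cases hc : IsCyclic G
  · by_cases h3 : Nat.card V = 3
    · exact Or.inl h3
    · right
      intro H
      have hi : ind2 H ≤ 2 := ind2_cyclic H
      have h5 : 5 ≤ Nat.card V := by
        have hqd : q ≤ q ^ d := Nat.le_self_pow (by omega) q
        by_cases hq5 : 5 ≤ q
        · omega
        · have hq3e : q = 3 := by
            have h34 : q = 3 ∨ q = 4 := by omega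
            rcases h34 with h | h
            · exact h
            · exfalso
              have hp := hq.out
              rw [h] at hp
              exact absurd hp (by norm_num)
          have hd2 : 2 ≤ d := by
            by_contra hd2
            have : d = 1 := by omega
            rw [this, pow_one, hq3e] at hd
            exact h3 hd
          rw [hd, hq3e]
          calc 5 ≤ 3 ^ 2 := by norm_num
            _ ≤ 3 ^ d := Nat.pow_le_pow_right (by norm_num) hd2
      calc (2 * ind2 H) ^ 19 ≤ 4 ^ 19 := Nat.pow_le_pow_left (by omega) 19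
        _ ≤ 5 ^ 18 := by norm_num
        _ ≤ Nat.card V ^ 18 := Nat.pow_le_pow_left h5 18
  · have hd2 : 2 ≤ d := by
      by_contra h
      have hd' : d = 1 := by omega
      rw [hd', pow_one] at hd
      exact hc (cyclic_of_dim_one ρ hd hρ)
    have h9 : 9 ≤ Nat.card V := by
      rw [hd]
      calc 9 = 3 ^ 2 := by norm_num
        _ ≤ q ^ 2 := Nat.pow_le_pow_left hq3 2
        _ ≤ q ^ d := Nat.pow_le_pow_right (by omega) hd2
    right
    by_cases hQ : (∃ n, Nonempty (G ≃* QuaternionGroup n)) ∨ (∃ n, Nonempty (G ≃* DihedralGroup n)) ∨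
        Cfsg.IsQuasiDihedral G
    · have hx : ∃ x : G, Nat.card G ≤ 2 * orderOf x := by
        rcases hQ with ⟨m, ⟨e⟩⟩ | ⟨m, ⟨e⟩⟩ | ⟨m, hm3, hcard, x, y, hx, hy, hxy⟩
        · refine ⟨e.symm (QuaternionGroup.a 1), ?_⟩
          have hpos := orderOf_pos (e.symm (QuaternionGroup.a 1))
          rw [MulEquiv.orderOf_eq, QuaternionGroup.orderOf_a_one] at hpos ⊢
          haveI : NeZero m := ⟨by omega⟩
          rw [Nat.card_congr e.toEquiv, Nat.card_eq_fintype_card, QuaternionGroup.card]
          omega
        · refine ⟨e.symm (DihedralGroup.r 1), ?_⟩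
          rw [MulEquiv.orderOf_eq, DihedralGroup.orderOf_r_one, Nat.card_congr e.toEquiv,
            DihedralGroup.nat_card]
        · refine ⟨x, ?_⟩
          rw [hcard, hx, pow_succ]
          omega
      obtain ⟨x, hx⟩ := hx
      intro H
      have hi := ind2_le_four x hx H
      calc (2 * ind2 H) ^ 19 ≤ 8 ^ 19 := Nat.pow_le_pow_left (by omega) 19
        _ ≤ 9 ^ 18 := by norm_num
        _ ≤ Nat.card V ^ 18 := Nat.pow_le_pow_left h9 18
    · push Not at hQ
      obtain ⟨hnq, hnd, hnsd⟩ := hQ
      obtain ⟨M, W, hMi, hsup, hind, hinv, hfix, hswap⟩ :=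
        Cfsg.Agent.Helper19.Imprim.imprim q 2 hG ρ hρ hirr hc
          (fun n => not_nonempty_iff.mpr (hnq n)) (fun n => not_nonempty_iff.mpr (hnd n)) hnsd
      haveI hMn : M.Normal := Subgroup.normal_of_index_eq_two hMi
      obtain ⟨g, hg⟩ : ∃ g : G, g ∉ M := by
        by_contra h
        push Not at h
        have : M = ⊤ := (Subgroup.eq_top_iff' M).mpr h
        rw [this, Subgroup.index_top] at hMi
        omega
      obtain ⟨σ, hσ, hσW⟩ := hswap g hg
      have key : ∀ a : Fin 2, a = 0 ∨ a = 1 := by decide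
      have hσ01 : σ 0 = 1 ∧ σ 1 = 0 := by
        have hne : σ ≠ 1 := by
          intro h
          rw [h, orderOf_one] at hσ
          omega
        rcases key (σ 0) with h0 | h0 <;> rcases key (σ 1) with h1 | h1
        · exact absurd (σ.injective (h0.trans h1.symm)) (by decide)
        · exfalso
          apply hne
          ext a
          rcases key a with rfl | rfl
          · rw [h0]; rfl
          · rw [h1]; rfl
        · exact ⟨h0, h1⟩
        · exact absurd (σ.injective (h0.trans h1.symm)) (by decide)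
      have hsup' : W 0 ⊔ W 1 = ⊤ := by
        rw [← hsup]
        apply le_antisymm
        · exact sup_le (le_iSup W 0) (le_iSup W 1)
        · refine iSup_le (fun i => ?_)
          rcases key i with rfl | rfl
          · exact le_sup_left
          · exact le_sup_right
      have hdisj : Disjoint (W 0) (W 1) := hind.pairwiseDisjoint (by decide)
      have hW0 : ∀ h ∈ M, ∀ w ∈ W 0, ρ h w ∈ W 0 := fun h hh w hw => hinv h hh 0 w hw
      have hW1 : ∀ h ∈ M, ∀ w ∈ W 1, ρ h w ∈ W 1 := fun h hh w hw => hinv h hh 1 w hw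
      have hg0 : (W 0).map (ρ g : V →ₗ[ZMod q] V) = W 1 := by rw [hσW 0, hσ01.1]
      have hg1 : (W 1).map (ρ g : V →ₗ[ZMod q] V) = W 0 := by rw [hσW 1, hσ01.2]
      have hW0ne : W 0 ≠ ⊥ := by
        intro h
        have h1 : W 1 = ⊥ := by rw [← hg0, h, Submodule.map_bot]
        rw [h, h1, sup_bot_eq] at hsup'
        exact bot_ne_top hsup'
      have hW1ne : W 1 ≠ ⊥ := by
        intro h
        apply hW0ne
        rw [← hg1, h, Submodule.map_bot]
      have hcard01 : Nat.card (W 0) = Nat.card (W 1) := by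
        rw [← hg0]
        exact Nat.card_congr ((ρ g).submoduleMap (W 0)).toEquiv
      have hcardV : Nat.card V = Nat.card (W 0) * Nat.card (W 1) := by
        have hcm : IsCompl (W 0) (W 1) := ⟨hdisj, codisjoint_iff.mpr hsup'⟩
        rw [← Nat.card_prod]
        exact (Nat.card_congr (Submodule.prodEquivOfIsCompl (W 0) (W 1) hcm).toEquiv).symm
      have hMlt : Nat.card M < Nat.card G := by
        have h1 := Subgroup.card_mul_index M
        rw [hMi] at h1
        have h2 := Nat.card_pos (α := M)
        omega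
      haveI : Nontrivial (W 0) := Submodule.nontrivial_iff_ne_bot.mpr hW0ne
      haveI : Nontrivial (W 1) := Submodule.nontrivial_iff_ne_bot.mpr hW1ne
      haveI : Finite (restr ρ M (W 0) hW0).range :=
        Finite.of_surjective _ (restr ρ M (W 0) hW0).rangeRestrict_surjective
      haveI : Finite (restr ρ M (W 1) hW1).range :=
        Finite.of_surjective _ (restr ρ M (W 1) hW1).rangeRestrict_surjective
      have hc0 : Nat.card (restr ρ M (W 0) hW0).range ≤ Nat.card M :=
        Nat.card_le_card_of_surjective _ (restr ρ M (W 0) hW0).rangeRestrict_surjective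
      have hc1 : Nat.card (restr ρ M (W 1) hW1).range ≤ Nat.card M :=
        Nat.card_le_card_of_surjective _ (restr ρ M (W 1) hW1).rangeRestrict_surjective
      have IH0 := ih (Nat.card M) (lt_of_lt_of_le hMlt hn) (W 0) (restr ρ M (W 0) hW0).range
        ((hG.to_subgroup M).of_surjective _ (restr ρ M (W 0) hW0).rangeRestrict_surjective) hc0
        (restr ρ M (W 0) hW0).range.subtype
        (Subgroup.subtype_injective _)
        (fun U hU => irr_restr ρ hirr M hMi (W 0) (W 1) hdisj hW0 g hg hg0 U
          (fun m u hu => hU ⟨restr ρ M (W 0) hW0 m, m, rfl⟩ u hu))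
      have IH1 := ih (Nat.card M) (lt_of_lt_of_le hMlt hn) (W 1) (restr ρ M (W 1) hW1).range
        ((hG.to_subgroup M).of_surjective _ (restr ρ M (W 1) hW1).rangeRestrict_surjective) hc1
        (restr ρ M (W 1) hW1).range.subtype
        (Subgroup.subtype_injective _)
        (fun U hU => irr_restr ρ hirr M hMi (W 1) (W 0) hdisj.symm hW1 g hg hg1 U
          (fun m u hu => hU ⟨restr ρ M (W 1) hW1 m, m, rfl⟩ u hu))
      by_cases h3 : Nat.card (W 0) = 3
      · have h31 : Nat.card (W 1) = 3 := by rw [← hcard01]; exact h3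
        have hV9 : Nat.card V = 9 := by rw [hcardV, h3, h31]
        have hq3' : q = 3 := by
          have h1 : q ∣ 3 ^ 2 := by
            have : q ∣ q ^ d := dvd_pow_self q (by omega)
            rw [← hd, hV9] at this
            exact this
          exact (Nat.prime_dvd_prime_iff_eq hq.out Nat.prime_three).mp (hq.out.dvd_of_dvd_pow h1)
        have c0 : Nat.card (restr ρ M (W 0) hW0).range ≤ 2 := by
          have := card_le_of_dim_one (restr ρ M (W 0) hW0).range.subtype (by rw [h3, hq3'])
            (Subgroup.subtype_injective _)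
          omega
        have c1 : Nat.card (restr ρ M (W 1) hW1).range ≤ 2 := by
          have := card_le_of_dim_one (restr ρ M (W 1) hW1).range.subtype (by rw [h31, hq3'])
            (Subgroup.subtype_injective _)
          omega
        have hfaith : ∀ a : G, (∀ w ∈ W 0, ρ a w = w) → (∀ w ∈ W 1, ρ a w = w) → a = 1 := by
          intro a h0 h1
          apply hρ
          rw [map_one]
          apply LinearEquiv.ext
          intro v
          have hv : v ∈ W 0 ⊔ W 1 := by rw [hsup']; trivial
          obtain ⟨x, hx, y, hy, rfl⟩ := Submodule.mem_sup.mp hv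
          rw [map_add, h0 x hx, h1 y hy]; rfl
        have hM4 : Nat.card M ≤ 4 := by
          have hinj : Function.Injective (fun m : M =>
              ((restr ρ M (W 0) hW0).rangeRestrict m, (restr ρ M (W 1) hW1).rangeRestrict m)) := by
            intro a b hab
            have h0 : restr ρ M (W 0) hW0 a = restr ρ M (W 0) hW0 b :=
              congrArg Subtype.val (congrArg Prod.fst hab)
            have h1 : restr ρ M (W 1) hW1 a = restr ρ M (W 1) hW1 b :=
              congrArg Subtype.val (congrArg Prod.snd hab)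
            have hab1 : ((a⁻¹ * b : M) : G) = 1 := by
              apply hfaith
              · intro w hw
                have e := congrArg (fun e : W 0 ≃ₗ[ZMod q] W 0 => ((e ⟨w, hw⟩ : W 0) : V)) h0
                have e' : ρ (a : G) w = ρ (b : G) w := e
                rw [Subgroup.coe_mul, Subgroup.coe_inv, map_mul, LinearEquiv.mul_apply, ← e',
                  ← LinearEquiv.mul_apply, ← map_mul, inv_mul_cancel, map_one]; rfl
              · intro w hw
                have e := congrArg (fun e : W 1 ≃ₗ[ZMod q] W 1 => ((e ⟨w, hw⟩ : W 1) : V)) h1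
                have e' : ρ (a : G) w = ρ (b : G) w := e
                rw [Subgroup.coe_mul, Subgroup.coe_inv, map_mul, LinearEquiv.mul_apply, ← e',
                  ← LinearEquiv.mul_apply, ← map_mul, inv_mul_cancel, map_one]; rfl
            have : a⁻¹ * b = 1 := Subtype.ext hab1
            exact (inv_mul_eq_one.mp this)
          have := Nat.card_le_card_of_injective _ hinj
          rw [Nat.card_prod] at this
          calc Nat.card M ≤ Nat.card (restr ρ M (W 0) hW0).range *
                Nat.card (restr ρ M (W 1) hW1).range := this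
            _ ≤ 2 * 2 := Nat.mul_le_mul c0 c1
        have hG8 : Nat.card G ≤ 8 := by
          have h1 := Subgroup.card_mul_index M
          rw [hMi] at h1
          omega
        have hsqne : ∃ x : G, x ^ 2 ≠ 1 := by
          by_contra hall
          push Not at hall
          have hinvs : ∀ a : G, a⁻¹ = a := by
            intro a
            have h := hall a
            rw [pow_two] at h
            exact inv_eq_of_mul_eq_one_left h
          have hcomm : ∀ a b : G, a * b = b * a := by
            intro a b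
            calc a * b = (a * b)⁻¹ := (hinvs _).symm
              _ = b⁻¹ * a⁻¹ := mul_inv_rev a b
              _ = b * a := by rw [hinvs a, hinvs b]
          obtain ⟨h, hhM, hh1, hhfix⟩ := hfix 0
          apply hh1
          apply hfaith h hhfix
          intro b hb
          rw [← hg0] at hb
          obtain ⟨c, hc, rfl⟩ := hb
          have e : ρ h (ρ g c) = ρ g (ρ h c) := by
            rw [← LinearEquiv.mul_apply, ← LinearEquiv.mul_apply, ← map_mul, ← map_mul, hcomm]
          show ρ h (ρ g c) = ρ g c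
          rw [e, hhfix c hc]
        intro H
        have hi4 : ind2 H ≤ 4 := by
          by_cases hH : H = ⊤
          · subst hH
            have e : ind2 (⊤ : Subgroup G) = ind2 G := ind2_congr Subgroup.topEquiv
            have := ind2_le_half G hsqne
            rw [e]; omega
          · have hne : Nat.card H ≠ Nat.card G := fun h => hH ((Subgroup.card_eq_iff_eq_top H).mp h)
            have hdvd := Subgroup.card_subgroup_dvd_card H
            have h2 : 2 * Nat.card H ≤ Nat.card G := by
              obtain ⟨k, hk⟩ := hdvd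
              have hpos := Nat.card_pos (α := G)
              have hk2 : 2 ≤ k := by
                by_contra hk2
                have : k = 0 ∨ k = 1 := by omega
                rcases this with h | h
                · rw [h, mul_zero] at hk; omega
                · rw [h, mul_one] at hk; exact hne hk.symm
              rw [hk]
              calc 2 * Nat.card H = Nat.card H * 2 := mul_comm _ _
                _ ≤ Nat.card H * k := Nat.mul_le_mul_left _ hk2
            have := ind2_le_card H
            omega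
        calc (2 * ind2 H) ^ 19 ≤ 8 ^ 19 := Nat.pow_le_pow_left (by omega) 19
          _ ≤ 9 ^ 18 := by norm_num
          _ = Nat.card V ^ 18 := by rw [hV9]
      · have IH0' := IH0.resolve_left h3
        have h31 : Nat.card (W 1) ≠ 3 := by rw [← hcard01]; exact h3
        have IH1' := IH1.resolve_left h31
        intro H
        obtain ⟨X0, X1, hH⟩ := ind2_step ρ hρ M hMi (W 0) (W 1) hsup' hW0 hW1 H
        calc (2 * ind2 H) ^ 19 ≤ (2 * (2 * (ind2 X0 * ind2 X1))) ^ 19 :=
              Nat.pow_le_pow_left (by omega) 19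
          _ = (2 * ind2 X0) ^ 19 * (2 * ind2 X1) ^ 19 := by ring
          _ ≤ Nat.card (W 0) ^ 18 * Nat.card (W 1) ^ 18 := Nat.mul_le_mul (IH0' X0) (IH1' X1)
          _ = Nat.card V ^ 18 := by rw [hcardV]; ring

theorem frat_bound_lin (q : ℕ) [hq : Fact q.Prime] (hq2 : q ≠ 2) {V : Type u} [AddCommGroup V]
    [Module (ZMod q) V] [Finite V] [Nontrivial V] {G : Type u} [Group G] [Finite G]
    (hG : IsPGroup 2 G) (ρ : G →* (V ≃ₗ[ZMod q] V)) (hρ : Function.Injective ρ)
    (hirr : ∀ W : Submodule (ZMod q) V, (∀ g : G, ∀ w ∈ W, ρ g w ∈ W) → W = ⊥ ∨ W = ⊤) :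
    (frattini G).index ≤ Nat.card V - 1 := by
  have h1 := frattini_index_le hG
  rcases main_ind q hq2 (Nat.card G) V G hG le_rfl ρ hρ hirr with h3 | hall
  · have hq3 : q = 3 := by
      haveI : Fintype V := Fintype.ofFinite V
      have hc : Nat.card V = q ^ Module.finrank (ZMod q) V := by
        rw [Nat.card_eq_fintype_card, Module.card_eq_pow_finrank (K := ZMod q) (V := V), ZMod.card]
      have hd : Module.finrank (ZMod q) V ≠ 0 := by
        intro h0
        rw [h0, pow_zero] at hc
        omega
      have : q ∣ 3 := by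
        rw [← h3, hc]
        exact dvd_pow_self q hd
      exact (Nat.prime_dvd_prime_iff_eq hq.out Nat.prime_three).mp this
    have hc := card_le_of_dim_one ρ (by rw [h3, hq3]) hρ
    have := ind2_le_card G
    rw [h3]
    omega
  · have h := hall ⊤
    rw [ind2_congr Subgroup.topEquiv] at h
    have hv : 1 ≤ Nat.card V := Nat.card_pos
    by_contra hcon
    push Not at hcon
    have hi : Nat.card V ≤ ind2 G := by omega
    have e1 : (2 * Nat.card V) ^ 19 ≤ (2 * ind2 G) ^ 19 := Nat.pow_le_pow_left (by omega) 19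
    have e2 : Nat.card V ^ 18 ≤ (2 * Nat.card V) ^ 18 := Nat.pow_le_pow_left (by omega) 18
    have e3 : (2 * Nat.card V) ^ 18 < (2 * Nat.card V) ^ 19 :=
      Nat.pow_lt_pow_right (by omega) (by norm_num)
    omega

theorem frat_bound_action {A : Type u} [CommGroup A] [Finite A] [Nontrivial A]
    (q : ℕ) [hq : Fact q.Prime] (hq2 : q ≠ 2) {V : Type u} [AddCommGroup V] [Module (ZMod q) V]
    (e : A ≃ V) (he : ∀ a b : A, e (a * b) = e a + e b)
    {P : Type u} [Group P] [Finite P] (hP : IsPGroup 2 P)
    (φ : P →* MulAut A) (hφ : Function.Injective φ)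
    (hirr : ∀ B : Subgroup A, (∀ g : P, ∀ b ∈ B, φ g b ∈ B) → B = ⊥ ∨ B = ⊤) :
    (frattini P).index ≤ Nat.card A - 1 := by
  haveI : Finite V := Finite.of_equiv A e
  haveI : Nontrivial V := e.symm.nontrivial
  have he0 : e 1 = 0 := by
    have := he 1 1
    rw [mul_one] at this
    exact left_eq_add.mp this
  have hes : ∀ v w : V, e.symm (v + w) = e.symm v * e.symm w := by
    intro v w
    apply e.injective
    rw [he, e.apply_symm_apply, e.apply_symm_apply, e.apply_symm_apply]
  let ρ : P →* (V ≃ₗ[ZMod q] V) :=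
    { toFun := fun g =>
        { toFun := fun v => e (φ g (e.symm v))
          invFun := fun v => e (φ g⁻¹ (e.symm v))
          map_add' := fun v w => by rw [hes, map_mul, he]
          map_smul' := fun c v => by
            exact ZMod.map_smul (AddMonoidHom.mk' (fun v => e (φ g (e.symm v)))
              (fun v w => by rw [hes, map_mul, he])) c v
          left_inv := fun v => by
            show e (φ g⁻¹ (e.symm (e (φ g (e.symm v))))) = v
            rw [e.symm_apply_apply, ← MulAut.mul_apply, ← map_mul, inv_mul_cancel, map_one,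
              MulAut.one_apply, e.apply_symm_apply]
          right_inv := fun v => by
            show e (φ g (e.symm (e (φ g⁻¹ (e.symm v))))) = v
            rw [e.symm_apply_apply, ← MulAut.mul_apply, ← map_mul, mul_inv_cancel, map_one,
              MulAut.one_apply, e.apply_symm_apply] }
      map_one' := by
        apply LinearEquiv.ext
        intro v
        show e (φ 1 (e.symm v)) = v
        rw [map_one, MulAut.one_apply, e.apply_symm_apply]
      map_mul' := fun a b => by
        apply LinearEquiv.ext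
        intro v
        show e (φ (a * b) (e.symm v)) = e (φ a (e.symm (e (φ b (e.symm v)))))
        rw [e.symm_apply_apply, map_mul, MulAut.mul_apply] }
  have hρapp : ∀ (g : P) (v : V), ρ g v = e (φ g (e.symm v)) := fun g v => rfl
  have hρ : Function.Injective ρ := by
    intro a b hab
    apply hφ
    apply MulEquiv.ext
    intro x
    have h1 : ρ a (e x) = ρ b (e x) := by rw [hab]
    rw [hρapp, hρapp, e.symm_apply_apply] at h1
    exact e.injective h1
  have hirr' : ∀ W : Submodule (ZMod q) V, (∀ g : P, ∀ w ∈ W, ρ g w ∈ W) →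
      W = ⊥ ∨ W = ⊤ := by
    intro W hW
    let B : Subgroup A :=
      { carrier := {a | e a ∈ W}
        mul_mem' := fun {a b} ha hb => by
          show e (a * b) ∈ W
          rw [he]; exact W.add_mem ha hb
        one_mem' := by
          show e 1 ∈ W
          rw [he0]; exact W.zero_mem
        inv_mem' := fun {a} ha => by
          show e a⁻¹ ∈ W
          have h : e a⁻¹ = -e a := by
            apply eq_neg_of_add_eq_zero_left
            rw [← he, inv_mul_cancel, he0]
          rw [h]; exact W.neg_mem ha }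
    have hB : ∀ g : P, ∀ b ∈ B, φ g b ∈ B := by
      intro g b hb
      have := hW g (e b) hb
      rw [hρapp, e.symm_apply_apply] at this
      exact this
    rcases hirr B hB with h | h
    · left
      rw [eq_bot_iff]
      intro w hw
      have h1 : e.symm w ∈ B := by
        show e (e.symm w) ∈ W
        rw [e.apply_symm_apply]; exact hw
      rw [h, Subgroup.mem_bot] at h1
      rw [Submodule.mem_bot]
      have h2 : w = e (e.symm w) := (e.apply_symm_apply w).symm
      rw [h2, h1, he0]
    · right
      rw [eq_top_iff]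
      intro w _
      have h1 : e.symm w ∈ B := by rw [h]; trivial
      have h2 : e (e.symm w) ∈ W := h1
      rw [e.apply_symm_apply] at h2
      exact h2
  have := frat_bound_lin q hq2 hP ρ hρ hirr'
  rw [show Nat.card V = Nat.card A from Nat.card_congr e.symm] at this
  exact this

theorem frat_bound {G : Type u} [Group G] [Finite G] (N P : Subgroup G) (hN : N.Normal)
    (hNab : IsMulCommutative ↥N) (hNodd : Odd (Nat.card ↥N)) (hP : IsPGroup 2 ↥P)
    (hdisj : N ⊓ P = ⊥) (hprod : N ⊔ P = ⊤)
    (hmin : N ≠ ⊥ ∧ ∀ M : Subgroup G, M.Normal → M ≠ ⊥ → N ≤ M) :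
    (frattini ↥P).index ≤ Nat.card ↥N - 1 := by
  classical
  have hNcomm : ∀ a b : ↥N, a * b = b * a := fun a b => hNab.is_comm.comm a b
  have hNcomm' : ∀ a ∈ N, ∀ b ∈ N, a * b = b * a := fun a ha b hb =>
    congrArg Subtype.val (hNcomm ⟨a, ha⟩ ⟨b, hb⟩)
  haveI : Nontrivial ↥N := (Subgroup.nontrivial_iff_ne_bot N).mpr hmin.1
  have hcard1 : Nat.card ↥N ≠ 1 := fun h => hmin.1 ((Subgroup.card_eq_one).mp h)
  haveI hq : Fact (Nat.card ↥N).minFac.Prime := ⟨Nat.minFac_prime hcard1⟩
  have hqdvd : (Nat.card ↥N).minFac ∣ Nat.card ↥N := Nat.minFac_dvd _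
  have hq2 : (Nat.card ↥N).minFac ≠ 2 := by
    intro h
    rw [h] at hqdvd
    exact (Nat.not_even_iff_odd.mpr hNodd) (even_iff_two_dvd.mpr hqdvd)
  have hdecomp : ∀ g : G, ∃ n ∈ N, ∃ p ∈ P, g = n * p := by
    intro g
    have hg : g ∈ N ⊔ P := by rw [hprod]; trivial
    have : g ∈ (N : Set G) * (P : Set G) := by rw [← Subgroup.normal_mul]; exact hg
    obtain ⟨n, hn, p, hp, rfl⟩ := Set.mem_mul.mp this
    exact ⟨n, hn, p, hp, rfl⟩
  have hexp : ∀ a : ↥N, a ^ (Nat.card ↥N).minFac = 1 := by
    let K : Subgroup G :=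
      { carrier := {x | x ∈ N ∧ x ^ (Nat.card ↥N).minFac = 1}
        mul_mem' := fun {a b} ha hb => ⟨N.mul_mem ha.1 hb.1, by
          rw [(show Commute a b from hNcomm' a ha.1 b hb.1).mul_pow, ha.2, hb.2, one_mul]⟩
        one_mem' := ⟨N.one_mem, one_pow _⟩
        inv_mem' := fun {a} ha => ⟨N.inv_mem ha.1, by rw [inv_pow, ha.2, inv_one]⟩ }
    have hKn : K.Normal := by
      constructor
      intro x hx g
      exact ⟨hN.conj_mem x hx.1 g, by rw [conj_pow, hx.2, mul_one, mul_inv_cancel]⟩
    have hKne : K ≠ ⊥ := by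
      obtain ⟨x, hx⟩ := exists_prime_orderOf_dvd_card' (Nat.card ↥N).minFac hqdvd
      intro hK
      have hxK : (x : G) ∈ K := ⟨x.2, by
        have := pow_orderOf_eq_one x
        rw [hx] at this
        exact_mod_cast congrArg Subtype.val this⟩
      rw [hK, Subgroup.mem_bot] at hxK
      have hx1 : x = 1 := Subtype.ext hxK
      rw [hx1, orderOf_one] at hx
      exact hq.out.one_lt.ne hx
    have hNK := hmin.2 K hKn hKne
    intro a
    exact Subtype.ext (hNK a.2).2
  let φ : ↥P →* MulAut ↥N := (MulAut.conjNormal (H := N)).comp P.subtype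
  have hφ : Function.Injective φ := by
    rw [injective_iff_map_eq_one]
    intro p hp
    have hcent : ∀ n ∈ N, (p : G) * n = n * p := by
      intro n hn
      have := congrArg (fun e : MulAut ↥N => ((e ⟨n, hn⟩ : ↥N) : G)) hp
      have h' : (p : G) * n * (p : G)⁻¹ = n := this
      calc (p : G) * n = (p : G) * n * (p : G)⁻¹ * p := by group
        _ = n * p := by rw [h']
    let C : Subgroup G :=
      { carrier := {x | x ∈ P ∧ ∀ n ∈ N, x * n = n * x}
        mul_mem' := fun {a b} ha hb => ⟨P.mul_mem ha.1 hb.1, fun n hn => by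
          rw [mul_assoc, hb.2 n hn, ← mul_assoc, ha.2 n hn, mul_assoc]⟩
        one_mem' := ⟨P.one_mem, fun n _ => by rw [one_mul, mul_one]⟩
        inv_mem' := fun {a} ha => ⟨P.inv_mem ha.1, fun n hn => by
          have := ha.2 n hn
          calc a⁻¹ * n = a⁻¹ * (n * a) * a⁻¹ := by group
            _ = a⁻¹ * (a * n) * a⁻¹ := by rw [this]
            _ = n * a⁻¹ := by group⟩ }
    have hCn : C.Normal := by
      constructor
      intro c hc g
      obtain ⟨n, hn, p', hp', rfl⟩ := hdecomp g
      have hc' : p' * c * p'⁻¹ ∈ C := by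
        refine ⟨P.mul_mem (P.mul_mem hp' hc.1) (P.inv_mem hp'), fun m hm => ?_⟩
        have hm' : p'⁻¹ * m * p' ∈ N := by
          have := hN.conj_mem m hm p'⁻¹
          rwa [inv_inv] at this
        have := hc.2 _ hm'
        calc p' * c * p'⁻¹ * m = p' * (c * (p'⁻¹ * m * p')) * p'⁻¹ := by group
          _ = p' * ((p'⁻¹ * m * p') * c) * p'⁻¹ := by rw [this]
          _ = m * (p' * c * p'⁻¹) := by group
      have e : n * p' * c * (n * p')⁻¹ = p' * c * p'⁻¹ := by
        have := hc'.2 n hn
        calc n * p' * c * (n * p')⁻¹ = n * (p' * c * p'⁻¹) * n⁻¹ := by group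
          _ = (p' * c * p'⁻¹) * n * n⁻¹ := by rw [this]
          _ = p' * c * p'⁻¹ := by group
      rw [e]; exact hc'
    by_contra hp1
    have hCne : C ≠ ⊥ := by
      intro hC
      have : (p : G) ∈ C := ⟨p.2, hcent⟩
      rw [hC, Subgroup.mem_bot] at this
      exact hp1 (Subtype.ext this)
    have hNC := hmin.2 C hCn hCne
    apply hmin.1
    rw [eq_bot_iff, ← hdisj]
    exact fun x hx => ⟨hx, (hNC hx).1⟩
  have hirr : ∀ B : Subgroup ↥N, (∀ g : ↥P, ∀ b ∈ B, φ g b ∈ B) → B = ⊥ ∨ B = ⊤ := by
    intro B hB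
    have hBn : (B.map N.subtype).Normal := by
      constructor
      rintro _ ⟨b, hb, rfl⟩ g
      obtain ⟨n, hn, p, hp, rfl⟩ := hdecomp g
      have h1 : (φ ⟨p, hp⟩ b : ↥N) ∈ B := hB ⟨p, hp⟩ b hb
      refine ⟨φ ⟨p, hp⟩ b, h1, ?_⟩
      have hmem : p * (b : G) * p⁻¹ ∈ N := hN.conj_mem b b.2 p
      have hc := hNcomm' n hn _ hmem
      show p * (b : G) * p⁻¹ = n * p * (b : G) * (n * p)⁻¹
      calc p * (b : G) * p⁻¹ = (p * (b : G) * p⁻¹) * n * n⁻¹ := by group
        _ = n * (p * (b : G) * p⁻¹) * n⁻¹ := by rw [hc]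
        _ = n * p * (b : G) * (n * p)⁻¹ := by group
    by_cases hb : B.map N.subtype = ⊥
    · left
      rw [eq_bot_iff]
      intro b hbB
      have : (b : G) ∈ B.map N.subtype := ⟨b, hbB, rfl⟩
      rw [hb, Subgroup.mem_bot] at this
      rw [Subgroup.mem_bot]
      exact Subtype.ext this
    · right
      have hNB := hmin.2 _ hBn hb
      rw [eq_top_iff]
      intro a _
      obtain ⟨b, hbB, hba⟩ := hNB a.2
      have : b = a := Subtype.ext hba
      rw [← this]; exact hbB
  letI : CommGroup ↥N := { (inferInstance : Group ↥N) with mul_comm := hNcomm }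
  exact @frat_bound_action ↥N _ _ _ (Nat.card ↥N).minFac hq hq2 (Additive ↥N) _
    (AddCommGroup.zmodModule (n := (Nat.card ↥N).minFac)
      (fun x => congrArg Additive.ofMul (hexp (Additive.toMul x))))
    Additive.ofMul (fun a b => rfl) ↥P _ _ hP φ hφ hirr

end Cfsg.Agent.Helper19.FrattRank
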