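import Mathlib

/-!
Classes of subgroups of prime order closed under "lines" (helper19).

`RS p E`: `E` is a conjugation-invariant set of elements of order `p`, closed under nontrivial
powers, such that for commuting `x, y ∈ E` generating distinct subgroups every nontrivial element
of `⟨x⟩⟨y⟩` lies in `E`, and every `w ∈ E` commutes with a nontrivial element of `⟨x⟩⟨y⟩`.
Main result `RS.exists_central`: some element of `E` commutes with all of `E`.
-/

set_option autoImplicit false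

namespace Cfsg.Agent.Helper19

section basic

variable {G : Type*} [Group G]

theorem comm_zp {u x a : G} (h : Commute u x) (ha : a ∈ Subgroup.zpowers x) : Commute u a := by
  obtain ⟨k, rfl⟩ := Subgroup.mem_zpowers_iff.mp ha
  exact h.zpow_right k

theorem ne_of_comm {u x y : G} (h1 : Commute u x) (h2 : ¬ Commute u y) :
    Subgroup.zpowers x ≠ Subgroup.zpowers y := by
  intro h
  exact h2 (comm_zp h1 (by rw [h]; exact Subgroup.mem_zpowers y))

theorem comm_cancel_right {x a b : G} (h : Commute x (a * b)) (hb : Commute x b) :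
    Commute x a := by
  have h1 := h.mul_right hb.inv_right
  simpa using h1

theorem comm_cancel_left {x a b : G} (h : Commute x (a * b)) (ha : Commute x a) :
    Commute x b := by
  have h1 := ha.inv_right.mul_right h
  simpa using h1

theorem zp_eq_of_prime [Finite G] {p : ℕ} (hp : p.Prime) {X : Subgroup G} (hX : Nat.card X = p)
    {x : G} (hx : x ∈ X) (hx1 : x ≠ 1) : Subgroup.zpowers x = X := by
  apply Subgroup.eq_of_le_of_card_ge (Subgroup.zpowers_le.mpr hx)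
  rw [hX, Nat.card_zpowers]
  have h1 : orderOf x ∣ p := hX ▸ Subgroup.orderOf_dvd_natCard X hx
  rcases (Nat.dvd_prime hp).mp h1 with h2 | h2
  · exact absurd (orderOf_eq_one_iff.mp h2) hx1
  · exact h2.ge

theorem gen_of_prime [Finite G] {p : ℕ} (hp : p.Prime) {x a : G} (hx : orderOf x = p)
    (ha : a ∈ Subgroup.zpowers x) (ha1 : a ≠ 1) : x ∈ Subgroup.zpowers a := by
  rw [zp_eq_of_prime hp (by rw [Nat.card_zpowers, hx]) ha ha1]
  exact Subgroup.mem_zpowers x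

theorem comm_of_gen [Finite G] {p : ℕ} (hp : p.Prime) {u x a : G} (hx : orderOf x = p)
    (ha : a ∈ Subgroup.zpowers x) (ha1 : a ≠ 1) (h : Commute u a) : Commute u x :=
  comm_zp h (gen_of_prime hp hx ha ha1)

theorem conj_zp {x y d : G} (hd : y⁻¹ * x * y = x * d) (hdx : Commute d x) (i : ℤ) :
    y⁻¹ * x ^ i * y = x ^ i * d ^ i := by
  have h1 : (y⁻¹ * x * y⁻¹⁻¹) ^ i = y⁻¹ * x ^ i * y⁻¹⁻¹ := conj_zpow
  rw [inv_inv] at h1
  rw [← h1, hd, hdx.symm.mul_zpow]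

theorem swap_conj {a y z : G} (h : y⁻¹ * a * y = a * z) : a⁻¹ * y * a = y * z⁻¹ := by
  have e : a⁻¹ * y * a = y * (y⁻¹ * a * y)⁻¹ * a := by group
  rw [e, h]; group

theorem comm_of_conj {a b z : G} (h : a⁻¹ * b * a = b * z) : a⁻¹ * b⁻¹ * a * b = z⁻¹ := by
  have e : a⁻¹ * b⁻¹ * a * b = (a⁻¹ * b * a)⁻¹ * b := by group
  rw [e, h]; group

/-- If `d = [x, y]` is central in `⟨x, y⟩`, all commutators of powers are powers of `d`. -/
theorem comm_pw {x y d : G} (hd : y⁻¹ * x * y = x * d) (hdx : Commute d x) (hdy : Commute d y)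
    {a b : G} (ha : a ∈ Subgroup.zpowers x) (hb : b ∈ Subgroup.zpowers y) :
    a⁻¹ * b⁻¹ * a * b ∈ Subgroup.zpowers d := by
  obtain ⟨i, rfl⟩ := Subgroup.mem_zpowers_iff.mp ha
  obtain ⟨j, rfl⟩ := Subgroup.mem_zpowers_iff.mp hb
  have h1 := conj_zp hd hdx i
  have h2 := swap_conj h1
  have h3 := conj_zp h2 (hdy.zpow_left i).inv_left j
  rw [comm_of_conj h3]
  exact inv_mem (zpow_mem (inv_mem (zpow_mem (Subgroup.mem_zpowers d) i)) j)

theorem comm_mul_central_left {x y z : G} (hzx : Commute z x) (hzy : Commute z y) :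
    (x * z)⁻¹ * y⁻¹ * (x * z) * y = x⁻¹ * y⁻¹ * x * y := by
  have hQ : Commute z (x⁻¹ * y⁻¹ * x * y) :=
    ((hzx.inv_right.mul_right hzy.inv_right).mul_right hzx).mul_right hzy
  have e1 : (x * z)⁻¹ * y⁻¹ * (x * z) * y = z⁻¹ * (x⁻¹ * y⁻¹ * x) * (z * y) := by group
  rw [e1, hzy.eq]
  have e2 : z⁻¹ * (x⁻¹ * y⁻¹ * x) * (y * z) = z⁻¹ * (x⁻¹ * y⁻¹ * x * y) * z := by group
  rw [e2, hQ.inv_left.eq, inv_mul_cancel_right]

theorem comm_mul_central_right {x y z : G} (hzx : Commute z x) (hzy : Commute z y) :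
    x⁻¹ * (y * z)⁻¹ * x * (y * z) = x⁻¹ * y⁻¹ * x * y := by
  have hQ : Commute z (x⁻¹ * y⁻¹ * x * y) :=
    ((hzx.inv_right.mul_right hzy.inv_right).mul_right hzx).mul_right hzy
  have e1 : x⁻¹ * (y * z)⁻¹ * x * (y * z) = x⁻¹ * z⁻¹ * (y⁻¹ * x * y) * z := by group
  rw [e1, ← (hzx.inv_left.inv_right).eq]
  have e2 : z⁻¹ * x⁻¹ * (y⁻¹ * x * y) * z = z⁻¹ * (x⁻¹ * y⁻¹ * x * y) * z := by group
  rw [e2, hQ.inv_left.eq, inv_mul_cancel_right]

theorem mem_sup_zpowers_of_commute {x y u : G} (h : Commute x y)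
    (hu : u ∈ Subgroup.zpowers x ⊔ Subgroup.zpowers y) :
    ∃ a ∈ Subgroup.zpowers x, ∃ b ∈ Subgroup.zpowers y, u = a * b := by
  rw [Subgroup.zpowers_eq_closure, Subgroup.zpowers_eq_closure, ← Subgroup.closure_union] at hu
  induction hu using Subgroup.closure_induction with
  | mem v hv =>
    rcases hv with hv | hv
    · rw [Set.mem_singleton_iff] at hv
      rw [hv]
      exact ⟨x, Subgroup.mem_zpowers x, 1, one_mem _, (mul_one x).symm⟩
    · rw [Set.mem_singleton_iff] at hv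
      rw [hv]
      exact ⟨1, one_mem _, y, Subgroup.mem_zpowers y, (one_mul y).symm⟩
  | one => exact ⟨1, one_mem _, 1, one_mem _, (mul_one 1).symm⟩
  | mul v v' _ _ ih ih' =>
    obtain ⟨a, ha, b, hb, rfl⟩ := ih
    obtain ⟨a', ha', b', hb', rfl⟩ := ih'
    have hc : Commute b a' := comm_zp (comm_zp h hb).symm ha'
    exact ⟨a * a', mul_mem ha ha', b * b', mul_mem hb hb', hc.mul_mul_mul_comm a b'⟩
  | inv v _ ih =>
    obtain ⟨a, ha, b, hb, rfl⟩ := ih
    have hc : Commute a b := comm_zp (comm_zp h.symm ha).symm hb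
    refine ⟨a⁻¹, inv_mem ha, b⁻¹, inv_mem hb, ?_⟩
    rw [mul_inv_rev, hc.inv_inv.eq]

end basic

/-- Elementwise axioms for a class of subgroups of order `p` closed under lines. -/
structure RS {G : Type*} [Group G] (p : ℕ) (E : Set G) : Prop where
  hp : p.Prime
  ord : ∀ x ∈ E, orderOf x = p
  conj : ∀ x ∈ E, ∀ g : G, g * x * g⁻¹ ∈ E
  pw : ∀ x ∈ E, ∀ a ∈ Subgroup.zpowers x, a ≠ 1 → a ∈ E
  line : ∀ x ∈ E, ∀ y ∈ E, Commute x y → Subgroup.zpowers x ≠ Subgroup.zpowers y →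
    ∀ a ∈ Subgroup.zpowers x, ∀ b ∈ Subgroup.zpowers y, a * b ≠ 1 → a * b ∈ E
  cen : ∀ x ∈ E, ∀ y ∈ E, Commute x y → Subgroup.zpowers x ≠ Subgroup.zpowers y →
    ∀ w ∈ E, ∃ a ∈ Subgroup.zpowers x, ∃ b ∈ Subgroup.zpowers y, a * b ≠ 1 ∧ Commute (a * b) w

theorem RS.config {G : Type*} [Group G] [Finite G] {p : ℕ} {E : Set G} (h : RS p E)
    {e t w v : G} (he : e ∈ E) (ht : t ∈ E) (hw : w ∈ E) (hv : v ∈ E)
    (hte : Commute t e) (htw : Commute t w) (hev : Commute e v) (hwv : Commute w v)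
    (hew : ¬ Commute e w) (htv : ¬ Commute t v) :
    ∃ β ∈ Subgroup.zpowers w, β ≠ 1 ∧ β⁻¹ * e⁻¹ * β * e ≠ 1 ∧
      Commute (β⁻¹ * e⁻¹ * β * e) e ∧ Commute (β⁻¹ * e⁻¹ * β * e) β ∧
      Commute (β⁻¹ * e⁻¹ * β * e) t ∧ Commute (β⁻¹ * e⁻¹ * β * e) v := by
  have hp := h.hp
  have hne3 : Subgroup.zpowers e ≠ Subgroup.zpowers t :=
    (ne_of_comm htw.symm (fun hc => hew hc.symm)).symm
  have het1 : e * t ≠ 1 := by
    intro h1
    apply hew
    have h2 : e = t⁻¹ := eq_inv_of_mul_eq_one_left h1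
    rw [h2]; exact htw.inv_left
  have hetE : e * t ∈ E :=
    h.line e he t ht hte.symm hne3 e (Subgroup.mem_zpowers e) t (Subgroup.mem_zpowers t) het1
  have hne4 : Subgroup.zpowers v ≠ Subgroup.zpowers w := ne_of_comm hev hew
  obtain ⟨α, hα, β, hβ, hαβ1, hαβ⟩ := h.cen v hv w hw hwv.symm hne4 (e * t) hetE
  have hαe : Commute e α := comm_zp hev hα
  have hαw : Commute w α := comm_zp hwv hα
  have htβ : Commute t β := comm_zp htw hβ
  have hαβc : Commute α β := comm_zp hαw.symm hβ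
  have hα1 : α ≠ 1 := by
    rintro rfl
    rw [one_mul] at hαβ1 hαβ
    have h1 : Commute β e := comm_cancel_right hαβ htβ.symm
    exact hew (comm_of_gen hp (h.ord w hw) hβ hαβ1 h1.symm)
  have hβ1 : β ≠ 1 := by
    rintro rfl
    rw [mul_one] at hαβ1 hαβ
    have h1 : Commute α t := comm_cancel_left hαβ hαe.symm
    exact htv (comm_of_gen hp (h.ord v hv) hα hαβ1 h1.symm)
  have k1 : β * (e * (α * t)) = e * (β * (t * α)) := by
    have h0 := hαβ.eq
    simp only [mul_assoc, hαβc.left_comm, hαe.symm.left_comm, htβ.left_comm, hte.left_comm,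
      hαβc.eq, hαe.symm.eq, htβ.eq, hte.eq] at h0
    exact h0
  have k2 : β⁻¹ * e⁻¹ * β * e = t * α * t⁻¹ * α⁻¹ := by
    have e1 : β⁻¹ * e⁻¹ * β * e = (e * β)⁻¹ * (β * (e * (α * t))) * (α * t)⁻¹ := by group
    rw [e1, k1]; group
  have hdt : Commute (β⁻¹ * e⁻¹ * β * e) t :=
    (((htβ.inv_right.mul_right hte.inv_right).mul_right htβ).mul_right hte).symm
  have hdα : Commute (β⁻¹ * e⁻¹ * β * e) α :=
    (((hαβc.inv_right.mul_right hαe.symm.inv_right).mul_right hαβc).mul_right hαe.symm).symm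
  have hde : Commute (β⁻¹ * e⁻¹ * β * e) e := by
    rw [k2]
    exact (((hte.symm.mul_right hαe).mul_right hte.symm.inv_right).mul_right hαe.inv_right).symm
  have hdβ : Commute (β⁻¹ * e⁻¹ * β * e) β := by
    rw [k2]
    exact (((htβ.symm.mul_right hαβc.symm).mul_right htβ.symm.inv_right).mul_right
      hαβc.symm.inv_right).symm
  have hd1 : β⁻¹ * e⁻¹ * β * e ≠ 1 := by
    intro h1
    apply hew
    have h2 : Commute e β := by
      have e1 : β * e = e * β * (β⁻¹ * e⁻¹ * β * e) := by group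
      rw [h1, mul_one] at e1
      exact e1.symm
    exact comm_of_gen hp (h.ord w hw) hβ hβ1 h2
  have hdv : Commute (β⁻¹ * e⁻¹ * β * e) v := comm_of_gen hp (h.ord v hv) hα hα1 hdα
  exact ⟨β, hβ, hβ1, hd1, hde, hdβ, hdt, hdv⟩

theorem RS.key {G : Type*} [Group G] [Finite G] {p : ℕ} {E : Set G} (h : RS p E)
    {e w t v : G} (he : e ∈ E) (hw : w ∈ E) (ht : t ∈ E) (hv : v ∈ E)
    (hew : ¬ Commute e w) (hte : Commute t e) (htw : Commute t w) (htv : ¬ Commute t v) :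
    ∃ c ∈ E, Commute c e ∧ Commute c w ∧ Commute c v ∧
      ∃ a ∈ Subgroup.zpowers w, ∃ a' ∈ Subgroup.zpowers e, c = a⁻¹ * a'⁻¹ * a * a' := by
  have hp := h.hp
  have hne1 : Subgroup.zpowers w ≠ Subgroup.zpowers t := (ne_of_comm hte.symm hew).symm
  obtain ⟨a, ha, b, hb, hab1, habv⟩ := h.cen w hw t ht htw.symm hne1 v hv
  have hta : Commute t a := comm_zp htw ha
  have htb : Commute t b := comm_zp (Commute.refl t) hb
  have ha1 : a ≠ 1 := by
    rintro rfl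
    rw [one_mul] at hab1 habv
    exact htv (comm_of_gen hp (h.ord t ht) hb hab1 habv.symm).symm
  have heb : Commute e b := comm_zp hte.symm hb
  have hw2E : a * b ∈ E := h.line w hw t ht htw.symm hne1 a ha b hb hab1
  have hw2t : Commute t (a * b) := hta.mul_right htb
  have hne2 : Subgroup.zpowers e ≠ Subgroup.zpowers t :=
    (ne_of_comm htw.symm (fun hc => hew hc.symm)).symm
  obtain ⟨a', ha', b', hb', hab'1, hab'v⟩ := h.cen e he t ht hte.symm hne2 v hv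
  have hta' : Commute t a' := comm_zp hte ha'
  have htb' : Commute t b' := comm_zp (Commute.refl t) hb'
  have ha'1 : a' ≠ 1 := by
    rintro rfl
    rw [one_mul] at hab'1 hab'v
    exact htv (comm_of_gen hp (h.ord t ht) hb' hab'1 hab'v.symm).symm
  have he2E : a' * b' ∈ E := h.line e he t ht hte.symm hne2 a' ha' b' hb' hab'1
  have he2t : Commute t (a' * b') := hta'.mul_right htb'
  have hbb' : Commute b b' := comm_zp htb.symm hb'
  have hab' : Commute a b' := comm_zp hta.symm hb'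
  have ha'b : Commute a' b := comm_zp hta'.symm hb
  have ha'b' : Commute a' b' := comm_zp hta'.symm hb'
  have hab : Commute a b := comm_zp hta.symm hb
  have he2w2 : ¬ Commute (a' * b') (a * b) := by
    intro hc
    have h1 : Commute b' (a * b) := hab'.symm.mul_right hbb'.symm
    have h2 : Commute (a * b) a' := comm_cancel_right hc.symm h1.symm
    have h3 : Commute a' a := comm_cancel_right h2.symm ha'b
    have h4 : Commute a e := comm_of_gen hp (h.ord e he) ha' ha'1 h3.symm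
    exact hew (comm_of_gen hp (h.ord w hw) ha ha1 h4.symm)
  obtain ⟨β, hβ, hβ1, hd1, hde, hdβ, hdt, hdv⟩ :=
    h.config he2E ht hw2E hv he2t hw2t hab'v habv he2w2 htv
  obtain ⟨k, rfl⟩ := Subgroup.mem_zpowers_iff.mp hβ
  rw [hab.mul_zpow] at hd1 hde hdβ hdt hdv hβ1
  obtain ⟨a₂, ha₂def⟩ : ∃ a₂, a₂ = a ^ k := ⟨_, rfl⟩
  obtain ⟨b₂, hb₂def⟩ : ∃ b₂, b₂ = b ^ k := ⟨_, rfl⟩
  rw [← ha₂def, ← hb₂def] at hd1 hde hdβ hdt hdv hβ1
  have ha₂ : a₂ ∈ Subgroup.zpowers w := by rw [ha₂def]; exact zpow_mem ha k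
  have hb₂ : b₂ ∈ Subgroup.zpowers t := by rw [hb₂def]; exact zpow_mem hb k
  have hta₂ : Commute t a₂ := comm_zp htw ha₂
  have hb₂a₂ : Commute b₂ a₂ := (comm_zp hta₂.symm hb₂).symm
  have hb₂a' : Commute b₂ a' := (comm_zp hta'.symm hb₂).symm
  have hb'a₂ : Commute b' a₂ := (comm_zp hta₂.symm hb').symm
  have hb'b₂ : Commute b' b₂ := comm_zp htb'.symm hb₂
  have hc_eq : (a₂ * b₂)⁻¹ * (a' * b')⁻¹ * (a₂ * b₂) * (a' * b') = a₂⁻¹ * a'⁻¹ * a₂ * a' := by
    rw [comm_mul_central_right (hb'a₂.mul_right hb'b₂) ha'b'.symm,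
      comm_mul_central_left hb₂a₂ hb₂a']
  rw [hc_eq] at hd1 hde hdt hdv hdβ
  obtain ⟨c, hc⟩ : ∃ c, c = a₂⁻¹ * a'⁻¹ * a₂ * a' := ⟨_, rfl⟩
  rw [← hc] at hd1 hde hdt hdv hdβ
  have hcb' : Commute c b' := comm_zp hdt hb'
  have hcb₂ : Commute c b₂ := comm_zp hdt hb₂
  have hca' : Commute c a' := comm_cancel_right hde hcb'
  have hca₂ : Commute c a₂ := comm_cancel_right hdβ hcb₂
  have hce : Commute c e := comm_of_gen hp (h.ord e he) ha' ha'1 hca'
  have ha₂1 : a₂ ≠ 1 := by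
    intro h1
    apply hd1; rw [hc, h1]; group
  have hcw : Commute c w := comm_of_gen hp (h.ord w hw) ha₂ ha₂1 hca₂
  have ha₂E : a₂ ∈ E := h.pw w hw a₂ ha₂ ha₂1
  obtain ⟨y, hy⟩ : ∃ y, y = a'⁻¹ * a₂ * a' := ⟨_, rfl⟩
  have hyE : y ∈ E := by
    have h1 := h.conj a₂ ha₂E a'⁻¹
    rw [inv_inv] at h1
    rw [hy]; exact h1
  have hcy : c = a₂⁻¹ * y := by rw [hc, hy]; group
  have hya : y = a₂ * c := by rw [hcy]; group
  have hcomm : Commute a₂ y := by rw [hya]; exact (Commute.refl a₂).mul_right hca₂.symm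
  have hne5 : Subgroup.zpowers a₂ ≠ Subgroup.zpowers y := by
    intro heq
    have hy' : y ∈ Subgroup.zpowers a₂ := by rw [heq]; exact Subgroup.mem_zpowers y
    have hc' : c ∈ Subgroup.zpowers a₂ := by
      rw [hcy]; exact mul_mem (inv_mem (Subgroup.mem_zpowers a₂)) hy'
    have h1 : a₂ ∈ Subgroup.zpowers c := gen_of_prime hp (h.ord a₂ ha₂E) hc' hd1
    have h2 : Commute a' a₂ := comm_zp hca'.symm h1
    apply hd1
    rw [hc]
    have e1 : a₂⁻¹ * a'⁻¹ * a₂ * a' = a₂⁻¹ * a'⁻¹ * (a₂ * a') := by group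
    rw [e1, ← h2.eq]; group
  have hcE : c ∈ E := by
    have h1 := h.line a₂ ha₂E y hyE hcomm hne5 a₂⁻¹ (inv_mem (Subgroup.mem_zpowers a₂)) y
      (Subgroup.mem_zpowers y) (by rw [← hcy]; exact hd1)
    rw [hcy]; exact h1
  exact ⟨c, hcE, hce, hcw, hdv, a₂, ha₂, a', ha', hc⟩

/-- Some element of `E` commutes with every element of `E`. -/
theorem RS.exists_central {G : Type*} [Group G] [Finite G] {p : ℕ} {E : Set G} (h : RS p E)
    (hex : ∃ x ∈ E, ∃ y ∈ E, Commute x y ∧ Subgroup.zpowers x ≠ Subgroup.zpowers y) :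
    ∃ c ∈ E, ∀ u ∈ E, Commute c u := by
  have hp := h.hp
  by_contra hcon
  push Not at hcon
  obtain ⟨e, he, y₀, hy₀, hey₀, hne₀⟩ := hex
  obtain ⟨w, hw, hew⟩ := hcon e he
  obtain ⟨a, ha, b, hb, hab1, habw⟩ := h.cen e he y₀ hy₀ hey₀ hne₀ w hw
  have htE : a * b ∈ E := h.line e he y₀ hy₀ hey₀ hne₀ a ha b hb hab1
  have hte : Commute (a * b) e :=
    ((comm_zp (Commute.refl e) ha).mul_right (comm_zp hey₀ hb)).symm
  obtain ⟨v, hv, htv⟩ := hcon (a * b) htE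
  obtain ⟨c₁, hc₁E, hc₁e, hc₁w, -, a₁, ha₁, a₁', ha₁', hc₁⟩ :=
    h.key he hw htE hv hew hte habw htv
  obtain ⟨v', hv', hc₁v'⟩ := hcon c₁ hc₁E
  obtain ⟨c₂, hc₂E, -, -, hc₂v', a₂, ha₂, a₂', ha₂', hc₂⟩ :=
    h.key he hw hc₁E hv' hew hc₁e hc₁w hc₁v'
  have hne1 : ∀ c ∈ E, c ≠ 1 := by
    intro c hc h1
    have h2 := h.ord c hc
    rw [h1, orderOf_one] at h2
    exact hp.one_lt.ne h2
  have hc₁1 := hne1 c₁ hc₁E
  have hc₂1 := hne1 c₂ hc₂E
  have ha₁1 : a₁ ≠ 1 := by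
    intro h1
    apply hc₁1; rw [hc₁, h1]; group
  have ha₁'1 : a₁' ≠ 1 := by
    intro h1
    apply hc₁1; rw [hc₁, h1]; group
  have hd : a₁'⁻¹ * a₁ * a₁' = a₁ * c₁ := by rw [hc₁]; group
  have hc₁a₁ : Commute c₁ a₁ := comm_zp hc₁w ha₁
  have hc₁a₁' : Commute c₁ a₁' := comm_zp hc₁e ha₁'
  have h2 : a₂ ∈ Subgroup.zpowers a₁ :=
    Subgroup.zpowers_le.mpr (gen_of_prime hp (h.ord w hw) ha₁ ha₁1) ha₂
  have h2' : a₂' ∈ Subgroup.zpowers a₁' :=
    Subgroup.zpowers_le.mpr (gen_of_prime hp (h.ord e he) ha₁' ha₁'1) ha₂'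
  have h3 : c₂ ∈ Subgroup.zpowers c₁ := by
    rw [hc₂]; exact comm_pw hd hc₁a₁ hc₁a₁' h2 h2'
  have h4 : c₁ ∈ Subgroup.zpowers c₂ := gen_of_prime hp (h.ord c₁ hc₁E) h3 hc₂1
  exact hc₁v' (comm_zp hc₂v'.symm h4).symm

end Cfsg.Agent.Helper19
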